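import Groth.Agent.DualTor32.Fun
import Mathlib.RingTheory.Spectrum.Prime.Chevalley
import Mathlib.RingTheory.Spectrum.Prime.Homeomorph
import Mathlib.RingTheory.LocalRing.ResidueField.Ideal
import Mathlib.RingTheory.Flat.Basic
import Mathlib.RingTheory.TensorProduct.Free
import Mathlib.RingTheory.FinitePresentation
import Mathlib.RingTheory.Finiteness.ModuleFinitePresentation
import Mathlib.Algebra.Module.FinitePresentation
import Mathlib.RingTheory.Flat.FaithfullyFlat.Basic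

/-!
A one-cocycle of the dual sheaf on a finite free cover splitting `B` is a coboundary: the
corresponding integer function `c` is the difference of the function `m(x) = max {c(z, x)}` at the
two ends.
-/

set_option autoImplicit false
set_option backward.isDefEq.respectTransparency false
universe u

open CategoryTheory CategoryTheory.Limits AlgebraicGeometry Opposite TensorProduct
open PrimeSpectrum (comap)

noncomputable section

namespace Groth.Agent.DualTor32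

/-- Two extensions of a field have a common extension. -/
theorem exists_amalg {κ k₁ k₂ : Type u} [Field κ] [Field k₁] [Field k₂] (i₁ : κ →+* k₁) (i₂ : κ →+* k₂) :
    ∃ (Ω : Type u) (_ : Field Ω) (j₁ : k₁ →+* Ω) (j₂ : k₂ →+* Ω), j₁.comp i₁ = j₂.comp i₂ := by
  let _ : Algebra κ k₁ := i₁.toAlgebra
  let _ : Algebra κ k₂ := i₂.toAlgebra
  obtain ⟨M, hM⟩ := Ideal.exists_maximal (k₁ ⊗[κ] k₂)
  refine ⟨(k₁ ⊗[κ] k₂) ⧸ M, Ideal.Quotient.field M,
    (Ideal.Quotient.mk M).comp Algebra.TensorProduct.includeLeftRingHom,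
    (Ideal.Quotient.mk M).comp (Algebra.TensorProduct.includeRight : k₂ →ₐ[κ] k₁ ⊗[κ] k₂).toRingHom,
    RingHom.ext fun r => ?_⟩
  show (Ideal.Quotient.mk M) (algebraMap κ k₁ r ⊗ₜ (1 : k₂)) =
    (Ideal.Quotient.mk M) ((1 : k₁) ⊗ₜ algebraMap κ k₂ r)
  congr 1
  rw [Algebra.algebraMap_eq_smul_one, Algebra.algebraMap_eq_smul_one, TensorProduct.smul_tmul]

/-- Two points with the same image have a common field of values. -/
theorem exists_common_field {R S T : Type u} [CommRing R] [CommRing S] [CommRing T] (g₁ : R →+* S)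
    (g₂ : R →+* T) (P₁ : PrimeSpectrum S) (P₂ : PrimeSpectrum T) (h : comap g₁ P₁ = comap g₂ P₂) :
    ∃ (Ω : Type u) (_ : Field Ω) (f₁ : S →+* Ω) (f₂ : T →+* Ω),
      RingHom.ker f₁ = P₁.asIdeal ∧ RingHom.ker f₂ = P₂.asIdeal ∧ f₁.comp g₁ = f₂.comp g₂ := by
  let q := (comap g₁ P₁).asIdeal
  have h' : q = P₂.asIdeal.comap g₂ := congrArg PrimeSpectrum.asIdeal h
  obtain ⟨Ω, _, j₁, j₂, e⟩ := exists_amalg (Ideal.ResidueField.map q P₁.asIdeal g₁ rfl)
    (Ideal.ResidueField.map q P₂.asIdeal g₂ h')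
  refine ⟨Ω, _, j₁.comp (algebraMap S P₁.asIdeal.ResidueField), j₂.comp (algebraMap T P₂.asIdeal.ResidueField),
    ?_, ?_, ?_⟩
  · rw [RingHom.ker_comp_of_injective _ j₁.injective, Ideal.ker_algebraMap_residueField]
  · rw [RingHom.ker_comp_of_injective _ j₂.injective, Ideal.ker_algebraMap_residueField]
  · refine RingHom.ext fun r => ?_
    have := DFunLike.congr_fun e (algebraMap R q.ResidueField r)
    rwa [RingHom.comp_apply, RingHom.comp_apply, Ideal.ResidueField.map_algebraMap,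
      Ideal.ResidueField.map_algebraMap] at this

variable (A₀ : Type u) [CommRing A₀] (A C : Type u) [CommRing A] [CommRing C] [Algebra A₀ A] [Algebra A C]
  [Algebra A₀ C] [IsScalarTower A₀ A C]

/-- The first projection of the square. -/
abbrev inl₂ : C →ₐ[A₀] C ⊗[A] C :=
  (Algebra.TensorProduct.includeLeft : C →ₐ[A] C ⊗[A] C).restrictScalars A₀

/-- The second projection of the square. -/
abbrev inr₂ : C →ₐ[A₀] C ⊗[A] C :=
  (Algebra.TensorProduct.includeRight : C →ₐ[A] C ⊗[A] C).restrictScalars A₀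

/-- The projections of the cube. -/
abbrev q12 : C ⊗[A] C →ₐ[A₀] (C ⊗[A] C) ⊗[A] C :=
  (Algebra.TensorProduct.includeLeft : C ⊗[A] C →ₐ[A] _).restrictScalars A₀

/-- The projections of the cube. -/
abbrev q23 : C ⊗[A] C →ₐ[A₀] (C ⊗[A] C) ⊗[A] C :=
  (Algebra.TensorProduct.map (Algebra.TensorProduct.includeRight : C →ₐ[A] C ⊗[A] C) (AlgHom.id A C)).restrictScalars A₀

/-- The projections of the cube. -/
abbrev q13 : C ⊗[A] C →ₐ[A₀] (C ⊗[A] C) ⊗[A] C :=
  (Algebra.TensorProduct.map (Algebra.TensorProduct.includeLeft : C →ₐ[A] C ⊗[A] C) (AlgHom.id A C)).restrictScalars A₀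

variable {A₀ A C} {B : Type u} [CommRing B] [Algebra A₀ B]

/-- Base change of a map to the cover. -/
abbrev bcB {Y Y' : Type u} [CommRing Y] [Algebra A₀ Y] [CommRing Y'] [Algebra A₀ Y'] (ψ : Y →ₐ[A₀] Y') :
    Y ⊗[A₀] B →+* Y' ⊗[A₀] B :=
  (Algebra.TensorProduct.map ψ (AlgHom.id A₀ B)).toRingHom

theorem bcB_tmul {Y Y' : Type u} [CommRing Y] [Algebra A₀ Y] [CommRing Y'] [Algebra A₀ Y'] (ψ : Y →ₐ[A₀] Y')
    (y : Y) (b : B) : bcB ψ (y ⊗ₜ[A₀] b) = ψ y ⊗ₜ b :=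
  Algebra.TensorProduct.map_tmul _ _ _ _

theorem bcB_comp {Y Y' Y'' : Type u} [CommRing Y] [Algebra A₀ Y] [CommRing Y'] [Algebra A₀ Y'] [CommRing Y'']
    [Algebra A₀ Y''] (ψ : Y →ₐ[A₀] Y') (χ : Y' →ₐ[A₀] Y'') (P : PrimeSpectrum (Y'' ⊗[A₀] B)) :
    comap (bcB ψ) (comap (bcB χ) P) = comap (bcB (χ.comp ψ)) P := by
  rw [← PrimeSpectrum.comap_comp_apply]
  congr 2
  have : (Algebra.TensorProduct.map χ (AlgHom.id A₀ B)).comp (Algebra.TensorProduct.map ψ (AlgHom.id A₀ B)) =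
      Algebra.TensorProduct.map (χ.comp ψ) (AlgHom.id A₀ B) := by
    rw [← Algebra.TensorProduct.map_comp]
    rfl
  exact congrArg AlgHom.toRingHom this

theorem ringHom_ext {Ω : Type u} [CommRing Ω] {f f' : (C ⊗[A] C) ⊗[A₀] B →+* Ω}
    (h₁ : f.comp (bcB (inl₂ A₀ A C)) = f'.comp (bcB (inl₂ A₀ A C)))
    (h₂ : f.comp (bcB (inr₂ A₀ A C)) = f'.comp (bcB (inr₂ A₀ A C))) : f = f' := by
  have h1 : ∀ (x : C) (b : B), f ((x ⊗ₜ (1 : C)) ⊗ₜ b) = f' ((x ⊗ₜ 1) ⊗ₜ b) := fun x b => by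
    have := DFunLike.congr_fun h₁ (x ⊗ₜ b)
    rwa [RingHom.comp_apply, RingHom.comp_apply, bcB_tmul] at this
  have h2 : ∀ (x : C), f (((1 : C) ⊗ₜ x) ⊗ₜ (1 : B)) = f' ((1 ⊗ₜ x) ⊗ₜ 1) := fun x => by
    have := DFunLike.congr_fun h₂ (x ⊗ₜ 1)
    rwa [RingHom.comp_apply, RingHom.comp_apply, bcB_tmul] at this
  refine RingHom.ext fun z => ?_
  induction z using TensorProduct.induction_on with
  | zero => simp
  | add x y hx hy => rw [map_add, map_add, hx, hy]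
  | tmul p b =>
    induction p using TensorProduct.induction_on with
    | zero => simp
    | add x y hx hy => rw [TensorProduct.add_tmul, map_add, map_add, hx, hy]
    | tmul x y =>
      have : (x ⊗ₜ[A] y) ⊗ₜ[A₀] b = ((x ⊗ₜ (1 : C)) ⊗ₜ b) * (((1 : C) ⊗ₜ y) ⊗ₜ (1 : B)) := by
        simp [Algebra.TensorProduct.tmul_mul_tmul]
      rw [this, map_mul, map_mul, h1, h2]

theorem bcB_bcB {Y Y' Y'' : Type u} [CommRing Y] [Algebra A₀ Y] [CommRing Y'] [Algebra A₀ Y'] [CommRing Y'']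
    [Algebra A₀ Y''] (ψ : Y →ₐ[A₀] Y') (χ : Y' →ₐ[A₀] Y'') :
    (bcB (B := B) χ).comp (bcB ψ) = bcB (χ.comp ψ) := by
  refine congrArg AlgHom.toRingHom (?_ : (Algebra.TensorProduct.map χ (AlgHom.id A₀ B)).comp
    (Algebra.TensorProduct.map ψ (AlgHom.id A₀ B)) = Algebra.TensorProduct.map (χ.comp ψ) (AlgHom.id A₀ B))
  rw [← Algebra.TensorProduct.map_comp]
  rfl

theorem mk_tmul {Y : Type u} [CommRing Y] [Algebra A₀ Y] (y : Y) (b : B) :
    y ⊗ₜ[A₀] b = (y ⊗ₜ[A₀] (1 : B)) * ((1 : Y) ⊗ₜ[A₀] b) := by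
  rw [Algebra.TensorProduct.tmul_mul_tmul, mul_one, one_mul]

theorem base_tmul {Ω : Type u} [CommRing Ω] {X : Type u} [CommRing X] [Algebra A₀ X] [Algebra A X] [IsScalarTower A₀ A X]
    (f : X ⊗[A₀] B →+* Ω) (a : A₀) :
    f ((1 : X) ⊗ₜ algebraMap A₀ B a) = f (algebraMap A X (algebraMap A₀ A a) ⊗ₜ (1 : B)) := by
  congr 1
  rw [Algebra.algebraMap_eq_smul_one (A := B), ← TensorProduct.smul_tmul, ← Algebra.algebraMap_eq_smul_one,
    IsScalarTower.algebraMap_apply A₀ A X]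

/-- A homomorphism out of `(X ⊗ C) ⊗ B` from its restrictions. -/
theorem exists_extend {Ω : Type u} [Field Ω] {X : Type u} [CommRing X] [Algebra A₀ X] [Algebra A X]
    [IsScalarTower A₀ A X] (f : X ⊗[A₀] B →+* Ω) (g : C ⊗[A₀] B →+* Ω)
    (hA : ∀ a : A, f (algebraMap A X a ⊗ₜ 1) = g (algebraMap A C a ⊗ₜ 1))
    (hB : ∀ b : B, f (1 ⊗ₜ b) = g (1 ⊗ₜ b)) :
    ∃ h : (X ⊗[A] C) ⊗[A₀] B →+* Ω,
      h.comp (bcB ((Algebra.TensorProduct.includeLeft : X →ₐ[A] X ⊗[A] C).restrictScalars A₀)) = f ∧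
      h.comp (bcB ((Algebra.TensorProduct.includeRight : C →ₐ[A] X ⊗[A] C).restrictScalars A₀)) = g := by
  let α : A →+* Ω := f.comp (Algebra.TensorProduct.includeLeftRingHom.comp (algebraMap A X))
  let _ : Algebra A Ω := α.toAlgebra
  let _ : Algebra A₀ Ω := (α.comp (algebraMap A₀ A)).toAlgebra
  have : IsScalarTower A₀ A Ω := .of_algebraMap_eq fun _ => rfl
  let fX : X →ₐ[A] Ω :=
    { toRingHom := f.comp Algebra.TensorProduct.includeLeftRingHom, commutes' := fun _ => rfl }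
  let gC : C →ₐ[A] Ω :=
    { toRingHom := g.comp Algebra.TensorProduct.includeLeftRingHom, commutes' := fun a => (hA a).symm }
  let β : B →ₐ[A₀] Ω :=
    { toRingHom := f.comp (Algebra.TensorProduct.includeRight : B →ₐ[A₀] X ⊗[A₀] B).toRingHom
      commutes' := fun a => base_tmul f a }
  let hQ : X ⊗[A] C →ₐ[A] Ω := Algebra.TensorProduct.lift fX gC fun _ _ => Commute.all _ _
  let h : (X ⊗[A] C) ⊗[A₀] B →ₐ[A₀] Ω :=
    Algebra.TensorProduct.lift (hQ.restrictScalars A₀) β fun _ _ => Commute.all _ _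
  have hQt : ∀ x c, hQ (x ⊗ₜ c) = fX x * gC c := fun x c => Algebra.TensorProduct.lift_tmul fX gC _ x c
  have ht : ∀ x c b, h.toRingHom ((x ⊗ₜ c) ⊗ₜ b) = fX x * gC c * β b := fun x c b => by
    rw [← hQt]
    exact Algebra.TensorProduct.lift_tmul (hQ.restrictScalars A₀) β _ (x ⊗ₜ c) b
  refine ⟨h.toRingHom, ?_, ?_⟩
  · refine RingHom.ext fun z => ?_
    induction z using TensorProduct.induction_on with
    | zero => simp
    | add x y hx hy => rw [map_add, map_add, hx, hy]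
    | tmul x b =>
      rw [RingHom.comp_apply, bcB_tmul, mk_tmul x b, map_mul f]
      show h.toRingHom ((x ⊗ₜ (1 : C)) ⊗ₜ b) = _
      rw [ht, map_one, mul_one]
      rfl
  · refine RingHom.ext fun z => ?_
    induction z using TensorProduct.induction_on with
    | zero => simp
    | add x y hx hy => rw [map_add, map_add, hx, hy]
    | tmul c b =>
      rw [RingHom.comp_apply, bcB_tmul, mk_tmul c b, map_mul g, ← hB]
      show h.toRingHom (((1 : X) ⊗ₜ c) ⊗ₜ b) = _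
      rw [ht, map_one, one_mul]
      rfl

theorem algebraMap_inr (a : A) : inr₂ A₀ A C (algebraMap A C a) = algebraMap A (C ⊗[A] C) a :=
  (Algebra.TensorProduct.includeRight : C →ₐ[A] C ⊗[A] C).commutes a

theorem algebraMap_inl (a : A) : inl₂ A₀ A C (algebraMap A C a) = algebraMap A (C ⊗[A] C) a :=
  (Algebra.TensorProduct.includeLeft : C →ₐ[A] C ⊗[A] C).commutes a

theorem ker_comp_eq {S T Ω : Type u} [CommRing S] [CommRing T] [Field Ω] (h : T →+* Ω) (g : S →+* T)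
    (P : PrimeSpectrum S) (hk : RingHom.ker (h.comp g) = P.asIdeal) :
    comap g ⟨RingHom.ker h, RingHom.ker_isPrime h⟩ = P :=
  PrimeSpectrum.ext (by rw [← hk]; rfl)

/-- The last coordinate of the cube. -/
abbrev last₃ : C →ₐ[A₀] (C ⊗[A] C) ⊗[A] C :=
  (Algebra.TensorProduct.includeRight : C →ₐ[A] (C ⊗[A] C) ⊗[A] C).restrictScalars A₀

theorem q13_inl : (q13 A₀ A C).comp (inl₂ A₀ A C) = (q12 A₀ A C).comp (inl₂ A₀ A C) :=
  AlgHom.ext fun _ => rfl

theorem q23_inl : (q23 A₀ A C).comp (inl₂ A₀ A C) = (q12 A₀ A C).comp (inr₂ A₀ A C) :=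
  AlgHom.ext fun _ => rfl

theorem q13_inr : (q13 A₀ A C).comp (inr₂ A₀ A C) = last₃ :=
  AlgHom.ext fun _ => rfl

theorem q23_inr : (q23 A₀ A C).comp (inr₂ A₀ A C) = last₃ :=
  AlgHom.ext fun _ => rfl

theorem agree_base {Ω : Type u} [CommRing Ω] (f : (C ⊗[A] C) ⊗[A₀] B →+* Ω) (a : A) :
    f (bcB (inr₂ A₀ A C) (algebraMap A C a ⊗ₜ 1)) = f (algebraMap A (C ⊗[A] C) a ⊗ₜ 1) ∧
      f (bcB (inl₂ A₀ A C) (algebraMap A C a ⊗ₜ 1)) = f (algebraMap A (C ⊗[A] C) a ⊗ₜ 1) := by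
  constructor <;> simp only [bcB_tmul, algebraMap_inr, algebraMap_inl]

theorem exists_glue₁ (R₁ R₂ : PrimeSpectrum ((C ⊗[A] C) ⊗[A₀] B))
    (hR : comap (bcB (inr₂ A₀ A C)) R₁ = comap (bcB (inl₂ A₀ A C)) R₂) :
    ∃ t, comap (bcB (q12 A₀ A C)) t = R₁ ∧ comap (bcB (q23 A₀ A C)) t = R₂ := by
  obtain ⟨Ω, _, f₁, f₂, k₁, k₂, e⟩ := exists_common_field _ _ R₁ R₂ hR
  have e' : ∀ z, f₁ (bcB (inr₂ A₀ A C) z) = f₂ (bcB (inl₂ A₀ A C) z) := DFunLike.congr_fun e
  obtain ⟨h, h12, hw⟩ := exists_extend f₁ (f₂.comp (bcB (inr₂ A₀ A C))) (fun a => by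
    rw [RingHom.comp_apply, (agree_base f₂ a).1, ← (agree_base f₂ a).2, ← e', (agree_base f₁ a).1]) (fun b => by
    have := e' (1 ⊗ₜ b)
    rw [bcB_tmul, bcB_tmul, map_one, map_one] at this
    rw [this, RingHom.comp_apply, bcB_tmul, map_one])
  refine ⟨⟨RingHom.ker h, RingHom.ker_isPrime h⟩, ker_comp_eq _ _ _ (h12.symm ▸ k₁), ker_comp_eq _ _ _ ?_⟩
  rw [ringHom_ext (f := h.comp (bcB (q23 A₀ A C))) (f' := f₂) ?_ ?_, k₂]
  · rw [RingHom.comp_assoc, bcB_bcB, q23_inl, ← bcB_bcB, ← RingHom.comp_assoc, h12, e]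
  · rw [RingHom.comp_assoc, bcB_bcB, q23_inr]
    exact hw

theorem exists_glue₂ (R₁ R₂ : PrimeSpectrum ((C ⊗[A] C) ⊗[A₀] B))
    (hR : comap (bcB (inr₂ A₀ A C)) R₁ = comap (bcB (inr₂ A₀ A C)) R₂) :
    ∃ t, comap (bcB (q13 A₀ A C)) t = R₁ ∧ comap (bcB (q23 A₀ A C)) t = R₂ := by
  obtain ⟨Ω, _, f₁, f₂, k₁, k₂, e⟩ := exists_common_field _ _ R₁ R₂ hR
  have e' : ∀ z, f₁ (bcB (inr₂ A₀ A C) z) = f₂ (bcB (inr₂ A₀ A C) z) := DFunLike.congr_fun e
  have hB : ∀ b, f₁ ((1 : C ⊗[A] C) ⊗ₜ b) = f₂ ((1 : C ⊗[A] C) ⊗ₜ b) := fun b => by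
    have := e' (1 ⊗ₜ b)
    rwa [bcB_tmul, map_one] at this
  obtain ⟨f, fl, fr⟩ := exists_extend (X := C) (f₁.comp (bcB (inl₂ A₀ A C))) (f₂.comp (bcB (inl₂ A₀ A C)))
    (fun a => by
      rw [RingHom.comp_apply, RingHom.comp_apply, (agree_base f₁ a).2, ← (agree_base f₁ a).1, e', (agree_base f₂ a).1,
        ← (agree_base f₂ a).2])
    (fun b => by rw [RingHom.comp_apply, RingHom.comp_apply, bcB_tmul, map_one, hB])
  obtain ⟨h, h12, hw⟩ := exists_extend f (f₁.comp (bcB (inr₂ A₀ A C))) (fun a => by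
    rw [← (agree_base f a).2]
    have := DFunLike.congr_fun fl (algebraMap A C a ⊗ₜ (1 : B))
    rw [RingHom.comp_apply, RingHom.comp_apply] at this
    rw [RingHom.comp_apply, this, (agree_base f₁ a).2, (agree_base f₁ a).1]) (fun b => by
    have := DFunLike.congr_fun fl ((1 : C) ⊗ₜ b)
    simp only [RingHom.comp_apply, bcB_tmul, map_one] at this ⊢
    exact this)
  refine ⟨⟨RingHom.ker h, RingHom.ker_isPrime h⟩, ker_comp_eq _ _ _ ?_, ker_comp_eq _ _ _ ?_⟩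
  · rw [ringHom_ext (f := h.comp (bcB (q13 A₀ A C))) (f' := f₁) ?_ ?_, k₁]
    · rw [RingHom.comp_assoc, bcB_bcB, q13_inl, ← bcB_bcB, ← RingHom.comp_assoc, h12]
      exact fl
    · rw [RingHom.comp_assoc, bcB_bcB, q13_inr]
      exact hw
  · rw [ringHom_ext (f := h.comp (bcB (q23 A₀ A C))) (f' := f₂) ?_ ?_, k₂]
    · rw [RingHom.comp_assoc, bcB_bcB, q23_inl, ← bcB_bcB, ← RingHom.comp_assoc, h12]
      exact fr
    · rw [RingHom.comp_assoc, bcB_bcB, q23_inr]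
      exact hw.trans e

theorem comap_inr_surjective : Function.Surjective (comap (bcB (inr₂ A₀ A C) : C ⊗[A₀] B →+* _)) := by
  intro x
  let μ : C ⊗[A] C →ₐ[A₀] C := (Algebra.TensorProduct.lmul' A (S := C)).restrictScalars A₀
  refine ⟨comap (bcB μ) x, ?_⟩
  rw [bcB_comp, show μ.comp (inr₂ A₀ A C) = AlgHom.id A₀ C from AlgHom.ext fun c => by
    show Algebra.TensorProduct.lmul' A ((1 : C) ⊗ₜ c) = c
    simp]
  rw [show bcB (B := B) (AlgHom.id A₀ C) = RingHom.id _ from congrArg AlgHom.toRingHom Algebra.TensorProduct.map_id]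
  rfl

variable [Module.Finite A C] [Module.Free A C]

theorem comap_inr_isOpen_isClosed :
    IsOpenMap (comap (bcB (inr₂ A₀ A C) : C ⊗[A₀] B →+* _)) ∧
      IsClosedMap (comap (bcB (inr₂ A₀ A C) : C ⊗[A₀] B →+* _)) := by
  let e : (C ⊗[A₀] B) ⊗[A] C ≃+* (C ⊗[A] C) ⊗[A₀] B :=
    (Algebra.TensorProduct.comm A (C ⊗[A₀] B) C).toRingEquiv.trans
      (Algebra.TensorProduct.assoc A₀ A A C C B).symm.toRingEquiv
  have he : (bcB (inr₂ A₀ A C) : C ⊗[A₀] B →+* _) =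
      e.toRingHom.comp (algebraMap (C ⊗[A₀] B) ((C ⊗[A₀] B) ⊗[A] C)) := by
    refine RingHom.ext fun z => ?_
    induction z using TensorProduct.induction_on with
    | zero => simp
    | add x y hx hy => rw [map_add, map_add, hx, hy]
    | tmul x b =>
      rw [bcB_tmul]
      rfl
  have hh : IsHomeomorph (comap e.toRingHom) := PrimeSpectrum.isHomeomorph_comap_of_bijective e.bijective
  have : Module.FinitePresentation (C ⊗[A₀] B) ((C ⊗[A₀] B) ⊗[A] C) := Module.finitePresentation_of_projective _ _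
  have : Algebra.FinitePresentation (C ⊗[A₀] B) ((C ⊗[A₀] B) ⊗[A] C) :=
    inferInstance
  rw [he, PrimeSpectrum.comap_comp]
  refine ⟨?_, ?_⟩
  · exact PrimeSpectrum.isOpenMap_comap_of_hasGoingDown_of_finitePresentation.comp hh.isOpenMap
  · exact (PrimeSpectrum.isClosedMap_comap_of_isIntegral _
      (algebraMap_isIntegral_iff.2 inferInstance)).comp hh.isClosedMap

variable {n : ℕ}

/-- Cocycles on a finite free cover splitting `B` are coboundaries. -/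
theorem exists_eq_coboundary (s : Spl A₀ B C n) (c : (D A₀ B).obj.obj (op (sp (K := A₀) (C ⊗[A] C))))
    (hc : (D A₀ B).obj.map (spMap (q13 A₀ A C)).op c =
      (D A₀ B).obj.map (spMap (q12 A₀ A C)).op c + (D A₀ B).obj.map (spMap (q23 A₀ A C)).op c) :
    ∃ m : (D A₀ B).obj.obj (op (sp (K := A₀) C)),
      (D A₀ B).obj.map (spMap (inr₂ A₀ A C)).op m - (D A₀ B).obj.map (spMap (inl₂ A₀ A C)).op m = c := by
  classical
  let sP := s.map (inl₂ A₀ A C)
  let N := fn sP c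
  let sQ := sP.map (q12 A₀ A C)
  have hq : ∀ (q : C ⊗[A] C →ₐ[A₀] (C ⊗[A] C) ⊗[A] C) R,
      fn sQ ((D A₀ B).obj.map (spMap q).op c) R = N (comap (bcB q) R) := fun q R => by
    rw [fn_congr sQ (sP.map q)]
    exact fn_res sP q c R
  have hN : ∀ t, N (comap (bcB (q13 A₀ A C)) t) = N (comap (bcB (q12 A₀ A C)) t) + N (comap (bcB (q23 A₀ A C)) t) :=
    fun t => by rw [← hq, ← hq, ← hq, hc, fn_add]
  let bb := comap (bcB (inr₂ A₀ A C) : C ⊗[A₀] B →+* _)
  have hNlc : IsLocallyConstant N := isLocallyConstant_fn sP c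
  have hfin : ∀ x, (N '' (bb ⁻¹' {x})).Finite := fun x => hNlc.range_finite.subset (Set.image_subset_range _ _)
  have hne : ∀ x, (hfin x).toFinset.Nonempty := fun x => by
    obtain ⟨R, hR⟩ := comap_inr_surjective (A₀ := A₀) (A := A) (C := C) (B := B) x
    exact ⟨N R, (hfin x).mem_toFinset.2 ⟨R, hR, rfl⟩⟩
  let m : PrimeSpectrum (C ⊗[A₀] B) → ℤ := fun x => (hfin x).toFinset.max' (hne x)
  have hle : ∀ R, N R ≤ m (bb R) := fun R => Finset.le_max' _ _ ((hfin _).mem_toFinset.2 ⟨R, rfl, rfl⟩)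
  have hex : ∀ x, ∃ R, bb R = x ∧ N R = m x := fun x => (hfin x).mem_toFinset.1 (Finset.max'_mem _ (hne x))
  have hδ : ∀ R, N R = m (bb R) - m (comap (bcB (inl₂ A₀ A C)) R) := by
    intro R
    refine eq_sub_iff_add_eq'.2 (le_antisymm ?_ ?_)
    · obtain ⟨R₁, h₁, hm₁⟩ := hex (comap (bcB (inl₂ A₀ A C)) R)
      obtain ⟨t, t₁, t₂⟩ := exists_glue₁ R₁ R h₁
      have h := hle (comap (bcB (q13 A₀ A C)) t)
      rw [hN, t₁, t₂, hm₁] at h
      refine h.trans (le_of_eq (congrArg m ?_))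
      rw [← t₂]
      show comap _ (comap _ _) = comap _ (comap _ _)
      rw [bcB_comp, bcB_comp]
      congr 1
    · obtain ⟨R₂, h₂, hm₂⟩ := hex (bb R)
      obtain ⟨t, t₁, t₂⟩ := exists_glue₂ R₂ R h₂
      have h := hle (comap (bcB (q12 A₀ A C)) t)
      have h' := hN t
      rw [t₁, t₂, hm₂] at h'
      have : bb (comap (bcB (q12 A₀ A C)) t) = comap (bcB (inl₂ A₀ A C)) R := by
        rw [← t₂]
        show comap _ (comap _ _) = comap _ (comap _ _)
        rw [bcB_comp, bcB_comp]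
        congr 2
      rw [this] at h
      omega
  obtain ⟨hopen, hclosed⟩ := comap_inr_isOpen_isClosed (A₀ := A₀) (A := A) (C := C) (B := B)
  have hclop : ∀ r, IsClopen {x | r ≤ m x} := fun r => by
    have : {x | r ≤ m x} = bb '' (N ⁻¹' Set.Ici r) := by
      ext x
      refine ⟨fun h => ?_, ?_⟩
      · obtain ⟨R, hR, hm⟩ := hex x
        exact ⟨R, show r ≤ N R from hm ▸ h, hR⟩
      · rintro ⟨R, hR, rfl⟩
        exact le_trans hR (hle R)
    rw [this]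
    exact ⟨hclosed _ ⟨by rw [← Set.preimage_compl]; exact hNlc _⟩, hopen _ (hNlc _)⟩
  have hmlc : IsLocallyConstant m := IsLocallyConstant.iff_isOpen_fiber.2 fun r => by
    have : m ⁻¹' {r} = {x | r ≤ m x} \ {x | r + 1 ≤ m x} := by
      ext x
      simp
      omega
    rw [this]
    exact (hclop r).2.sdiff (hclop (r + 1)).1
  obtain ⟨μ, hμ⟩ := exists_fn s hmlc
  refine ⟨μ, ?_⟩
  have h2 : ∀ R, fn sP ((D A₀ B).obj.map (spMap (inr₂ A₀ A C)).op μ) R = m (bb R) := fun R => by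
    rw [fn_congr sP (s.map (inr₂ A₀ A C)), fn_res, hμ]
  rw [sub_eq_iff_eq_add]
  refine fn_inj sP (funext fun R => ?_)
  rw [h2, fn_add, fn_res, hμ]
  show m (bb R) = N R + m (comap (bcB (inl₂ A₀ A C)) R)
  rw [hδ R, sub_add_cancel]

end Groth.Agent.DualTor32
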