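import Mathlib.Algebra.MonoidAlgebra.Basic
import Mathlib.RingTheory.Spectrum.Prime.Basic
import Mathlib.RingTheory.Idempotents
import Mathlib.Topology.LocallyConstant.Basic
import Mathlib.RingTheory.Spectrum.Prime.Topology

/-!
Group-like Laurent polynomials: finite families of orthogonal idempotents indexed by `ℤ`, summing to
one; equivalently locally constant `ℤ`-valued functions on the prime spectrum.
-/

set_option autoImplicit false
universe u v

open AddMonoidAlgebra

namespace Groth.Agent.DualTor32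

variable {Y : Type u} [CommRing Y] {R : Type v} [CommRing R]

/-- Laurent polynomials. -/
abbrev Lau (Y : Type u) [CommRing Y] : Type u := AddMonoidAlgebra Y ℤ

/-- Evaluation of a Laurent polynomial at a unit. -/
noncomputable def evalAt (θ : Y →+* R) (u : Rˣ) : Lau Y →+* R :=
  AddMonoidAlgebra.liftNCRingHom θ ((Units.coeHom R).comp (zpowersHom Rˣ u)) fun _ _ => mul_comm _ _

theorem evalAt_single (θ : Y →+* R) (u : Rˣ) (r : ℤ) (a : Y) :
    evalAt θ u (single r a) = θ a * ((u ^ r : Rˣ) : R) := by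
  rw [evalAt]
  exact (AddMonoidAlgebra.liftNC_single _ _ _ _).trans (by simp)

theorem evalAt_eq_sum (θ : Y →+* R) (u : Rˣ) (g : Lau Y) :
    evalAt θ u g = ∑ r ∈ g.coeff.support, θ (g.coeff r) * ((u ^ r : Rˣ) : R) := by
  conv_lhs => rw [← AddMonoidAlgebra.sum_coeff_single g, Finsupp.sum, map_sum]
  exact Finset.sum_congr rfl fun r _ => evalAt_single θ u r _

/-- A group-like Laurent polynomial. -/
structure IsGL (g : Lau Y) : Prop where
  orth : ∀ r s, r ≠ s → g.coeff r * g.coeff s = 0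
  sum : ∑ r ∈ g.coeff.support, g.coeff r = 1

theorem IsGL.idem {g : Lau Y} (hg : IsGL g) (r : ℤ) : g.coeff r * g.coeff r = g.coeff r := by
  have := congrArg (g.coeff r * ·) hg.sum
  simp only [Finset.mul_sum, mul_one] at this
  rwa [Finset.sum_eq_single r (fun s _ hs => hg.orth r s hs.symm)
    (fun h => by rw [Finsupp.notMem_support_iff.1 h, mul_zero])] at this

theorem IsGL.eval_one {g : Lau Y} (hg : IsGL g) (θ : Y →+* R) : evalAt θ 1 g = 1 := by
  rw [evalAt_eq_sum]
  simp [← map_sum, hg.sum]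

theorem IsGL.eval_mul {g : Lau Y} (hg : IsGL g) (θ : Y →+* R) (u v : Rˣ) :
    evalAt θ (u * v) g = evalAt θ u g * evalAt θ v g := by
  rw [evalAt_eq_sum, evalAt_eq_sum, evalAt_eq_sum, Finset.sum_mul_sum]
  refine Finset.sum_congr rfl fun r hr => ?_
  rw [Finset.sum_eq_single r]
  · rw [mul_zpow, Units.val_mul, mul_mul_mul_comm, ← map_mul, hg.idem]
  · intro s _ hs
    rw [mul_mul_mul_comm, ← map_mul, hg.orth r s hs.symm, map_zero, zero_mul]
  · exact fun h => absurd hr h

theorem IsGL.isUnit_eval {g : Lau Y} (hg : IsGL g) (θ : Y →+* R) (u : Rˣ) :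
    IsUnit (evalAt θ u g) :=
  IsUnit.of_mul_eq_one (b := evalAt θ u⁻¹ g) (by rw [← hg.eval_mul, mul_inv_cancel, hg.eval_one])

/-- The monomial units in two variables. -/
noncomputable def T2 (Y : Type u) [CommRing Y] : ℤ × ℤ → (AddMonoidAlgebra Y (ℤ × ℤ))ˣ := fun m =>
  Units.map (AddMonoidAlgebra.of Y (ℤ × ℤ)) (toUnits (Multiplicative.ofAdd m))

theorem T2_zpow (m : ℤ × ℤ) (r : ℤ) :
    ((T2 Y m ^ r : (AddMonoidAlgebra Y (ℤ × ℤ))ˣ) : AddMonoidAlgebra Y (ℤ × ℤ)) = single (r • m) 1 := by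
  rw [T2, ← map_zpow, ← map_zpow, ← ofAdd_zsmul]
  rfl

/-- Criterion from multiplicativity in two variables. -/
theorem isGL_of_mul {g : Lau Y}
    (h1 : ∑ r ∈ g.coeff.support, g.coeff r = 1)
    (h : evalAt AddMonoidAlgebra.singleZeroRingHom (T2 Y (1, 1)) g =
      evalAt AddMonoidAlgebra.singleZeroRingHom (T2 Y (1, 0)) g *
        evalAt AddMonoidAlgebra.singleZeroRingHom (T2 Y (0, 1)) g) :
    IsGL g := by
  refine ⟨fun r s hrs => ?_, h1⟩
  have hm : ∀ (m : ℤ × ℤ) (t : ℤ) (x : Y), AddMonoidAlgebra.singleZeroRingHom x *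
      ((T2 Y m ^ t : (AddMonoidAlgebra Y (ℤ × ℤ))ˣ) : AddMonoidAlgebra Y (ℤ × ℤ)) = single (t • m) x :=
    fun m t x => by
      rw [T2_zpow]
      exact (AddMonoidAlgebra.single_mul_single _ _ _ _).trans (by rw [zero_add, mul_one])
  have := congrArg (fun f : AddMonoidAlgebra Y (ℤ × ℤ) => f.coeff (r, s)) h
  simp only [evalAt_eq_sum, hm, Finset.sum_mul_sum, AddMonoidAlgebra.single_mul_single,
    AddMonoidAlgebra.coeff_sum, Finsupp.finsetSum_apply, AddMonoidAlgebra.coeff_single, Prod.smul_mk, smul_eq_mul,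
    mul_one, mul_zero, Prod.mk_add_mk, add_zero, zero_add, Finsupp.single_apply, Prod.mk.injEq] at this
  rw [Finset.sum_eq_zero (fun t _ => if_neg fun ht => hrs (ht.1.symm.trans ht.2)),
    Finset.sum_eq_single r] at this
  · rw [Finset.sum_eq_single s] at this
    · simpa using this.symm
    · exact fun t _ ht => if_neg fun h' => ht h'.2
    · exact fun hs => by rw [Finsupp.notMem_support_iff.1 hs]; simp
  · exact fun t _ ht => Finset.sum_eq_zero fun t' _ => if_neg fun h' => ht h'.1
  · exact fun hr => by simp [Finsupp.notMem_support_iff.1 hr]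

/-- The exponent of a group-like Laurent polynomial at a point. -/
theorem IsGL.exists_deg {g : Lau Y} (hg : IsGL g) (y : PrimeSpectrum Y) : ∃! r, g.coeff r ∉ y.asIdeal := by
  obtain ⟨r, hr⟩ : ∃ r, g.coeff r ∉ y.asIdeal := by
    by_contra! h
    exact y.isPrime.ne_top ((Ideal.eq_top_iff_one _).2 (hg.sum ▸ sum_mem fun r _ => h r))
  refine ⟨r, hr, fun s hs => by_contra fun hsr => ?_⟩
  exact (y.isPrime.mem_or_mem (show g.coeff s * g.coeff r ∈ y.asIdeal by rw [hg.orth s r hsr]; exact zero_mem _)).elim hs hr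

/-- The exponent. -/
noncomputable def deg (g : Lau Y) (y : PrimeSpectrum Y) : ℤ := by
  classical exact if h : ∃ r, g.coeff r ∉ y.asIdeal then h.choose else 0

theorem IsGL.deg_eq_iff {g : Lau Y} (hg : IsGL g) (y : PrimeSpectrum Y) (r : ℤ) :
    deg g y = r ↔ g.coeff r ∉ y.asIdeal := by
  classical
  obtain ⟨r₀, h0, hu⟩ := hg.exists_deg y
  have hd : deg g y = r₀ := by
    rw [deg, dif_pos ⟨r₀, h0⟩]
    exact hu _ (Exists.choose_spec (⟨r₀, h0⟩ : ∃ r, g.coeff r ∉ y.asIdeal))
  exact ⟨fun h => h ▸ hd.symm ▸ h0, fun h => hd.trans (hu r h).symm⟩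

theorem IsGL.isLocallyConstant_deg {g : Lau Y} (hg : IsGL g) : IsLocallyConstant (deg g) := by
  refine IsLocallyConstant.iff_exists_open _ |>.2 fun y => ⟨(PrimeSpectrum.basicOpen (g.coeff (deg g y)) : Set _),
    (PrimeSpectrum.basicOpen (g.coeff (deg g y))).2, (hg.deg_eq_iff y _).1 rfl, fun z hz => (hg.deg_eq_iff z _).2 hz⟩

/-- Every locally constant function is the exponent of a group-like Laurent polynomial. -/
theorem exists_isGL {n : PrimeSpectrum Y → ℤ} (hn : IsLocallyConstant n) :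
    ∃ g : Lau Y, IsGL g ∧ deg g = n := by
  classical
  have hfin : (Set.range n).Finite := hn.range_finite
  choose e he he' using fun r : ℤ => PrimeSpectrum.exists_idempotent_basicOpen_eq_of_isClopen (hn.isClopen_fiber r)
  have hmem : ∀ r (y : PrimeSpectrum Y), e r ∉ y.asIdeal ↔ n y = r := fun r y =>
    (Set.ext_iff.1 (he' r) y).symm
  have hz : ∀ a : Y, IsIdempotentElem a → (∀ y : PrimeSpectrum Y, a ∈ y.asIdeal) → a = 0 := fun a ha h => by
    obtain ⟨k, hk⟩ : IsNilpotent a := by
      rw [← mem_nilradical, nilradical_eq_sInf, Ideal.mem_sInf]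
      exact fun {I} hI => h ⟨I, hI⟩
    rw [← ha.pow_succ_eq k, pow_succ, hk, zero_mul]
  let g : Lau Y := ∑ r ∈ hfin.toFinset, single r (e r)
  have hgr : ∀ r, g.coeff r = e r := fun r => by
    show (∑ s ∈ hfin.toFinset, single s (e s)).coeff r = e r
    rw [AddMonoidAlgebra.coeff_sum, Finsupp.finsetSum_apply]
    simp only [AddMonoidAlgebra.coeff_single]
    by_cases hr : r ∈ hfin.toFinset
    · rw [Finset.sum_eq_single r (fun s _ hs => Finsupp.single_eq_of_ne hs.symm) (fun h => absurd hr h)]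
      exact Finsupp.single_eq_same
    · rw [Finset.sum_eq_zero fun s hs => Finsupp.single_eq_of_ne (fun (h : r = s) => hr (by rw [h]; exact hs))]
      exact (hz _ (he r) fun y => by_contra fun h => hr (hfin.mem_toFinset.2 ⟨y, (hmem r y).1 h⟩)).symm
  have horth : ∀ r s, r ≠ s → g.coeff r * g.coeff s = 0 := fun r s hrs => by
    rw [hgr, hgr]
    exact hz _ ((he r).mul (he s)) fun y => by
      by_cases h : n y = r
      · exact y.asIdeal.mul_mem_left _ (by_contra fun h' => hrs (h.symm.trans ((hmem s y).1 h')))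
      · exact y.asIdeal.mul_mem_right _ (by_contra fun h' => h ((hmem r y).1 h'))
  have hidem : ∀ r, g.coeff r * g.coeff r = g.coeff r := fun r => by rw [hgr]; exact (he r).eq
  have hg : IsGL g := by
    refine ⟨horth, ?_⟩
    have ho : OrthogonalIdempotents (fun r : g.coeff.support => g.coeff r.1) :=
      ⟨fun r => hidem r.1, fun r s hrs => horth _ _ fun h => hrs (Subtype.ext h)⟩
    have hsum : IsIdempotentElem (∑ r ∈ g.coeff.support, g.coeff r) := by
      rw [← Finset.sum_coe_sort]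
      exact ho.isIdempotentElem_sum
    refine sub_eq_zero.1 (hz _ hsum.one_sub fun y => ?_) |>.symm
    have h1 : g.coeff (n y) * (1 - ∑ r ∈ g.coeff.support, g.coeff r) = 0 := by
      rw [mul_sub, mul_one, Finset.mul_sum, Finset.sum_eq_single (n y) (fun s _ hs => horth _ _ hs.symm)
        (fun h => by rw [Finsupp.notMem_support_iff.1 h, mul_zero]), hidem, sub_self]
    exact (y.isPrime.mem_or_mem (h1 ▸ zero_mem _)).resolve_left (by rw [hgr, hmem])
  exact ⟨g, hg, funext fun y => (hg.deg_eq_iff y _).2 (by rw [hgr, hmem])⟩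

theorem IsGL.ext {g g' : Lau Y} (hg : IsGL g) (hg' : IsGL g') (h : deg g = deg g') : g = g' := by
  refine AddMonoidAlgebra.ext (Finsupp.ext fun r => ?_)
  have hz : ∀ a b : Y, a * a = a → b * b = b → (∀ y : PrimeSpectrum Y, a ∈ y.asIdeal ↔ b ∈ y.asIdeal) → a = b :=
    fun a b ha hb hab => by
      refine PrimeSpectrum.basicOpen_injOn_isIdempotentElem ha hb (TopologicalSpace.Opens.ext (Set.ext fun y => ?_))
      exact not_congr (hab y)
  exact hz _ _ (hg.idem r) (hg'.idem r) fun y => not_iff_not.1 (by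
    rw [← hg.deg_eq_iff, ← hg'.deg_eq_iff, h])

end Groth.Agent.DualTor32
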