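import Groth.Agent.DualTor32.Sheaf
import Groth.Agent.DualTor32.Laurent
import Mathlib.RingTheory.TensorProduct.Maps
import Mathlib.AlgebraicGeometry.Pullbacks

/-!
Over an algebra `Y` splitting the cover, sections of the dual sheaf are families of group-like
Laurent polynomials, one for each sheet.
-/

set_option autoImplicit false
set_option backward.isDefEq.respectTransparency false
universe u

open CategoryTheory CategoryTheory.Limits AlgebraicGeometry Opposite TensorProduct

noncomputable section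

namespace Groth.Agent.DualTor32

variable {A₀ : Type u} [CommRing A₀] {B : Type u} [CommRing B] [Algebra A₀ B]

attribute [local instance] secAlg

attribute [-simp] Over.pullback_obj_left

/-- A splitting of the cover over an algebra. -/
structure Spl (R : Type u) [CommRing R] (C : Type u) [CommRing C] [Algebra R C] (Y : Type u) [CommRing Y]
    [Algebra R Y] (n : ℕ) where
  σ : Fin n → (C →ₐ[R] Y)
  ε : Fin n → Y ⊗[R] C
  delta : ∀ i j, Algebra.TensorProduct.lift (Algebra.ofId Y Y) (σ j) (fun _ _ => Commute.all _ _) (ε i) =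
    if i = j then 1 else 0
  expand : ∀ b : C, (1 : Y) ⊗ₜ[R] b = ∑ i, σ i b • ε i

namespace Spl

variable {Y : Type u} [CommRing Y] [Algebra A₀ Y] {n : ℕ} (s : Spl A₀ B Y n)

/-- Evaluation at a sheet. -/
abbrev ev (j : Fin n) : Y ⊗[A₀] B →ₐ[Y] Y :=
  Algebra.TensorProduct.lift (Algebra.ofId Y Y) (s.σ j) fun _ _ => Commute.all _ _

theorem eq_sum (x : Y ⊗[A₀] B) : x = ∑ i, s.ev i x • s.ε i := by
  induction x using TensorProduct.induction_on with
  | zero => simp
  | tmul y b =>
    calc y ⊗ₜ[A₀] b = y • ((1 : Y) ⊗ₜ[A₀] b) := by rw [TensorProduct.smul_tmul', smul_eq_mul, mul_one]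
      _ = _ := by rw [s.expand, Finset.smul_sum]; simp [smul_smul]
  | add x x' hx hx' =>
    conv_lhs => rw [hx, hx']
    simp [← Finset.sum_add_distrib, add_smul]

theorem ext {x x' : Y ⊗[A₀] B} (h : ∀ i, s.ev i x = s.ev i x') : x = x' := by
  rw [s.eq_sum x, s.eq_sum x']
  simp [h]

theorem orth (i j : Fin n) : s.ε i * s.ε j = if i = j then s.ε i else 0 := by
  refine s.ext fun k => ?_
  rw [map_mul]
  show s.ev k _ * s.ev k _ = _
  rw [show s.ev k (s.ε i) = _ from s.delta i k, show s.ev k (s.ε j) = _ from s.delta j k]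
  by_cases hij : i = j
  · subst hij
    rw [if_pos rfl, show s.ev k (s.ε i) = _ from s.delta i k]
    by_cases hik : i = k <;> simp [hik]
  · rw [if_neg hij, map_zero]
    by_cases hik : i = k
    · subst hik; simp [Ne.symm hij]
    · simp [hik]

theorem sum : ∑ i, s.ε i = 1 := by
  have := s.expand 1
  simp only [map_one, one_smul] at this
  exact this.symm.trans Algebra.TensorProduct.one_def.symm

/-- Base change of a splitting. -/
def map {Y' : Type u} [CommRing Y'] [Algebra A₀ Y'] (ψ : Y →ₐ[A₀] Y') : Spl A₀ B Y' n where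
  σ i := ψ.comp (s.σ i)
  ε i := Algebra.TensorProduct.map ψ (AlgHom.id A₀ B) (s.ε i)
  delta i j := by
    have : ∀ x : Y ⊗[A₀] B, Algebra.TensorProduct.lift (Algebra.ofId Y' Y') (ψ.comp (s.σ j))
        (fun _ _ => Commute.all _ _) (Algebra.TensorProduct.map ψ (AlgHom.id A₀ B) x) = ψ (s.ev j x) := by
      intro x
      induction x using TensorProduct.induction_on with
      | zero => simp
      | tmul y b => simp
      | add x x' hx hx' => simp only [map_add, hx, hx']
    rw [this, show s.ev j (s.ε i) = _ from s.delta i j]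
    split <;> simp
  expand b := by
    have h := congrArg (Algebra.TensorProduct.map ψ (AlgHom.id A₀ B)) (s.expand b)
    rw [Algebra.TensorProduct.map_tmul, map_one, AlgHom.id_apply, map_sum] at h
    refine h.trans (Finset.sum_congr rfl fun i _ => ?_)
    rw [← mul_one (s.σ i b), ← smul_smul]
    have : ∀ (y : Y) (x : Y ⊗[A₀] B), Algebra.TensorProduct.map ψ (AlgHom.id A₀ B) (y • x) =
        ψ y • Algebra.TensorProduct.map ψ (AlgHom.id A₀ B) x := by
      intro y x
      induction x using TensorProduct.induction_on with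
      | zero => simp
      | tmul z c => simp [TensorProduct.smul_tmul']
      | add x x' hx hx' => simp [hx, hx']
    simp [this]

end Spl

section Global

variable (B) in
/-- Pullback of functions from the base object. -/
def fstΓ (Z : Over (base A₀)) : Γ(Z.left, ⊤) →+* Γ((pb B Z).left, ⊤) :=
  (pullback.fst Z.hom (fB A₀ B)).appTop.hom

/-- Pullback of functions from the cover. -/
def sndΓ (Z : Over (base A₀)) : B →+* Γ((pb B Z).left, ⊤) :=
  (pullback.snd Z.hom (fB A₀ B)).appTop.hom.comp (Scheme.ΓSpecIso (CommRingCat.of B)).inv.hom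

theorem fst_snd_base (Z : Over (base A₀)) (a : A₀) :
    fstΓ B Z (algebraMap A₀ Γ(Z.left, ⊤) a) = sndΓ (B := B) Z (algebraMap A₀ B a) := by
  have h := congrArg Scheme.Hom.appTop (pullback.condition (f := Z.hom) (g := fB A₀ B))
  rw [Scheme.Hom.comp_appTop, Scheme.Hom.comp_appTop] at h
  have h2 := congr($(Scheme.ΓSpecIso_inv_naturality (CommRingCat.ofHom (algebraMap A₀ B))) a)
  refine (congr($h ((Scheme.ΓSpecIso (CommRingCat.of A₀)).inv a))).trans ?_
  exact congrArg (pullback.snd Z.hom (fB A₀ B)).appTop h2.symm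

variable {Y : Type u} [CommRing Y] [Algebra A₀ Y] {Z Z' : Over (base A₀)}

/-- The comparison map to functions on the pullback. -/
def theta (z : Z ⟶ sp (K := A₀) Y) : Y ⊗[A₀] B →+* Γ((pb B Z).left, ⊤) :=
  letI : Algebra A₀ Γ((pb B Z).left, ⊤) := ((sndΓ Z).comp (algebraMap A₀ B)).toAlgebra
  (Algebra.TensorProduct.lift (R := A₀) (A := Y) (B := B) (C := Γ((pb B Z).left, ⊤)) (S := A₀)
    { toRingHom := (fstΓ B Z).comp (pt z).toRingHom
      commutes' := fun a => by
        show fstΓ B Z (pt z (algebraMap A₀ Y a)) = _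
        rw [(pt z).commutes]
        exact fst_snd_base Z a }
    { toRingHom := sndΓ Z, commutes' := fun _ => rfl } fun _ _ => Commute.all _ _).toRingHom

theorem theta_tmul (z : Z ⟶ sp (K := A₀) Y) (y : Y) (b : B) :
    theta z (y ⊗ₜ[A₀] b) = fstΓ B Z (pt z y) * sndΓ Z b := by
  simp [theta]

theorem theta_smul (z : Z ⟶ sp (K := A₀) Y) (y : Y) (x : Y ⊗[A₀] B) :
    theta z (y • x) = fstΓ B Z (pt z y) * theta z x := by
  induction x using TensorProduct.induction_on with
  | zero => simp
  | tmul y' b => rw [TensorProduct.smul_tmul', smul_eq_mul, theta_tmul, theta_tmul, map_mul, map_mul, mul_assoc]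
  | add x x' hx hx' => rw [smul_add, map_add, map_add, hx, hx', mul_add]

theorem fstΓ_map (g : Z' ⟶ Z) (a : Γ(Z.left, ⊤)) :
    ((Over.pullback (fB A₀ B)).map g).left.appTop (fstΓ B Z a) = fstΓ B Z' (g.left.appTop a) := by
  show (((Over.pullback (fB A₀ B)).map g).left ≫ pullback.fst Z.hom (fB A₀ B)).appTop a =
    (pullback.fst Z'.hom (fB A₀ B) ≫ g.left).appTop a
  congr 3
  exact pullback.lift_fst _ _ _

theorem sndΓ_map (g : Z' ⟶ Z) (b : B) :
    ((Over.pullback (fB A₀ B)).map g).left.appTop (sndΓ Z b) = sndΓ Z' b := by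
  show (((Over.pullback (fB A₀ B)).map g).left ≫ pullback.snd Z.hom (fB A₀ B)).appTop _ =
    (pullback.snd Z'.hom (fB A₀ B)).appTop _
  congr 3
  exact pullback.lift_snd _ _ _

theorem theta_map (g : Z' ⟶ Z) (z : Z ⟶ sp (K := A₀) Y) (x : Y ⊗[A₀] B) :
    ((Over.pullback (fB A₀ B)).map g).left.appTop (theta z x) = theta (g ≫ z) x := by
  induction x using TensorProduct.induction_on with
  | zero => exact (congrArg _ (map_zero (theta z))).trans ((map_zero _).trans (map_zero (theta _)).symm)
  | tmul y b =>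
    rw [theta_tmul, theta_tmul, map_mul, fstΓ_map, sndΓ_map, pt_comp]
    rfl
  | add x x' hx hx' => rw [map_add, map_add, map_add, hx, hx']

theorem theta_spMap {Y' : Type u} [CommRing Y'] [Algebra A₀ Y'] (ψ : Y →ₐ[A₀] Y')
    (z : Z ⟶ sp (K := A₀) Y') (x : Y ⊗[A₀] B) :
    theta z (Algebra.TensorProduct.map ψ (AlgHom.id A₀ B) x) = theta (z ≫ spMap ψ) x := by
  induction x using TensorProduct.induction_on with
  | zero => exact (congrArg (theta z) (map_zero _)).trans ((map_zero (theta z)).trans (map_zero (theta _)).symm)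
  | tmul y b =>
    rw [Algebra.TensorProduct.map_tmul, theta_tmul, theta_tmul, pt_comp_spMap]
    rfl
  | add x x' hx hx' => rw [map_add, map_add, map_add, hx, hx']

variable {n : ℕ} (s : Spl A₀ B Y n)

/-- A function from its values on the sheets. -/
def comb (z : Z ⟶ sp (K := A₀) Y) : (Fin n → Γ(Z.left, ⊤)) →+* Γ((pb B Z).left, ⊤) where
  toFun w := ∑ i, fstΓ B Z (w i) * theta z (s.ε i)
  map_one' := by simp [← map_sum, s.sum]
  map_zero' := by simp
  map_add' w w' := by simp [add_mul, Finset.sum_add_distrib]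
  map_mul' w w' := by
    rw [Finset.sum_mul_sum]
    refine Finset.sum_congr rfl fun i _ => ?_
    rw [Finset.sum_eq_single i]
    · rw [mul_mul_mul_comm, ← map_mul, ← map_mul (theta z), s.orth, if_pos rfl, Pi.mul_apply]
    · intro j _ hj
      rw [mul_mul_mul_comm, ← map_mul (theta z), s.orth, if_neg (Ne.symm hj), map_zero, mul_zero]
    · simp

theorem comb_apply (z : Z ⟶ sp (K := A₀) Y) (w : Fin n → Γ(Z.left, ⊤)) :
    comb s z w = ∑ i, fstΓ B Z (w i) * theta z (s.ε i) := rfl

theorem comb_map (g : Z' ⟶ Z) (z : Z ⟶ sp (K := A₀) Y) (w : Fin n → Γ(Z.left, ⊤)) :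
    ((Over.pullback (fB A₀ B)).map g).left.appTop (comb s z w) =
      comb s (g ≫ z) fun i => g.left.appTop (w i) := by
  rw [comb_apply, comb_apply, map_sum]
  exact Finset.sum_congr rfl fun i _ => by rw [map_mul, fstΓ_map, theta_map]

theorem comb_spMap {Y' : Type u} [CommRing Y'] [Algebra A₀ Y'] (ψ : Y →ₐ[A₀] Y')
    (z : Z ⟶ sp (K := A₀) Y') (w : Fin n → Γ(Z.left, ⊤)) :
    comb (s.map ψ) z w = comb s (z ≫ spMap ψ) w := by
  rw [comb_apply, comb_apply]
  exact Finset.sum_congr rfl fun i _ => congrArg _ (theta_spMap ψ z (s.ε i))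

/-- The section through a sheet. -/
def sheet (z : Z ⟶ sp (K := A₀) Y) (j : Fin n) : Z.left ⟶ pullback Z.hom (fB A₀ B) :=
  pullback.lift (𝟙 _) (ofHom (R := B) ((pt z).comp (s.σ j))).left
    ((Category.id_comp _).trans (Over.w (ofHom (R := B) ((pt z).comp (s.σ j)))).symm)

/-- The values on a sheet. -/
def comps (z : Z ⟶ sp (K := A₀) Y) (j : Fin n) : Γ((pb B Z).left, ⊤) →+* Γ(Z.left, ⊤) :=
  (sheet s z j).appTop.hom

theorem comps_fst (z : Z ⟶ sp (K := A₀) Y) (j : Fin n) (a : Γ(Z.left, ⊤)) :
    comps s z j (fstΓ B Z a) = a := by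
  show (sheet s z j ≫ pullback.fst Z.hom (fB A₀ B)).appTop a = a
  rw [sheet, pullback.lift_fst]
  simp

theorem comps_snd (z : Z ⟶ sp (K := A₀) Y) (j : Fin n) (b : B) :
    comps s z j (sndΓ Z b) = pt z (s.σ j b) := by
  show (sheet s z j ≫ pullback.snd Z.hom (fB A₀ B)).appTop ((Scheme.ΓSpecIso (CommRingCat.of B)).inv b) = _
  rw [sheet, pullback.lift_snd]
  exact DFunLike.congr_fun (pt_ofHom (R := B) ((pt z).comp (s.σ j))) b

theorem comps_theta (z : Z ⟶ sp (K := A₀) Y) (j : Fin n) (x : Y ⊗[A₀] B) :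
    comps s z j (theta z x) = pt z (s.ev j x) := by
  induction x using TensorProduct.induction_on with
  | zero => simp
  | tmul y b =>
    rw [theta_tmul, map_mul, comps_fst, comps_snd, ← map_mul]
    simp [Algebra.ofId_apply]
  | add x x' hx hx' => rw [map_add, map_add, map_add, map_add, hx, hx']

theorem comps_comb (z : Z ⟶ sp (K := A₀) Y) (j : Fin n) (w : Fin n → Γ(Z.left, ⊤)) :
    comps s z j (comb s z w) = w j := by
  rw [comb_apply, map_sum, Finset.sum_eq_single j]
  · rw [map_mul, comps_fst, comps_theta, show s.ev j (s.ε j) = _ from s.delta j j, if_pos rfl, map_one, mul_one]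
  · intro i _ hi
    rw [map_mul, comps_theta, show s.ev j (s.ε i) = _ from s.delta i j, if_neg hi, map_zero, mul_zero]
  · simp

theorem comps_map (g : Z' ⟶ Z) (z : Z ⟶ sp (K := A₀) Y) (j : Fin n) (t : Γ((pb B Z).left, ⊤)) :
    comps s (g ≫ z) j (((Over.pullback (fB A₀ B)).map g).left.appTop t) = g.left.appTop (comps s z j t) := by
  show (sheet s (g ≫ z) j ≫ ((Over.pullback (fB A₀ B)).map g).left).appTop t = (g.left ≫ sheet s z j).appTop t
  congr 3
  apply pullback.hom_ext
  · simp [sheet]
    exact Category.id_comp _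
  · have h : ofHom (R := B) ((pt (g ≫ z)).comp (s.σ j)) = g ≫ ofHom (R := B) ((pt z).comp (s.σ j)) := by
      apply pt_injective
      rw [pt_ofHom, pt_comp, pt_comp, pt_ofHom]
      rfl
    simp [sheet, h]

theorem comps_spMap {Y' : Type u} [CommRing Y'] [Algebra A₀ Y'] (ψ : Y →ₐ[A₀] Y')
    (z : Z ⟶ sp (K := A₀) Y') (j : Fin n) (t : Γ((pb B Z).left, ⊤)) :
    comps (s.map ψ) z j t = comps s (z ≫ spMap ψ) j t := by
  have : sheet (s.map ψ) z j = sheet s (z ≫ spMap ψ) j := by
    simp only [sheet, pt_comp_spMap]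
    rfl
  show (sheet _ _ _).appTop t = (sheet _ _ _).appTop t
  rw [this]

theorem comb_comps [IsAffine Z.left] (z : Z ⟶ sp (K := A₀) Y) (t : Γ((pb B Z).left, ⊤)) :
    comb s z (fun j => comps s z j t) = t := by
  have : IsAffine (pullback Z.hom (fB A₀ B)) := inferInstance
  let h : Γ((pb B Z).left, ⊤) →+* Γ((pb B Z).left, ⊤) := (comb s z).comp (RingHom.pi fun j => comps s z j)
  suffices h = RingHom.id _ from DFunLike.congr_fun this t
  have h1 : ∀ a, h (fstΓ B Z a) = fstΓ B Z a := fun a => by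
    show comb s z (fun j => comps s z j (fstΓ B Z a)) = _
    simp only [comps_fst]
    rw [comb_apply, ← Finset.mul_sum, ← map_sum, s.sum, map_one, mul_one]
  have h2 : ∀ b, h (sndΓ Z b) = sndΓ Z b := fun b => by
    show comb s z (fun j => comps s z j (sndΓ Z b)) = _
    simp only [comps_snd]
    rw [comb_apply]
    have := congrArg (theta z) (s.expand b)
    rw [theta_tmul, map_one, map_one, one_mul, map_sum] at this
    rw [this]
    exact Finset.sum_congr rfl fun i _ => (theta_smul z _ _).symm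
  let P := pullback Z.hom (fB A₀ B)
  let m : P ⟶ P := P.isoSpec.hom ≫ Spec.map (CommRingCat.ofHom h) ≫ P.isoSpec.inv
  have hm : ∀ x, m.appTop x = h x := fun x => by
    have : m.appTop = CommRingCat.ofHom h := by
      simp [m, Scheme.isoSpec, Scheme.toSpecΓ_appTop]
      exact congrArg (· ≫ CommRingCat.ofHom h) (Scheme.toSpecΓ_appTop P).symm
    rw [this]
    rfl
  have hm1 : m ≫ pullback.fst Z.hom (fB A₀ B) = pullback.fst Z.hom (fB A₀ B) := by
    apply ext_of_isAffine
    ext a
    exact (hm _).trans (h1 a)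
  have hm2 : m ≫ pullback.snd Z.hom (fB A₀ B) = pullback.snd Z.hom (fB A₀ B) := by
    apply ext_of_isAffine
    ext a
    obtain ⟨b, rfl⟩ := (ConcreteCategory.bijective_of_isIso (Scheme.ΓSpecIso (CommRingCat.of B)).inv).2 a
    exact (hm _).trans (h2 b)
  have hid : m = 𝟙 P := pullback.hom_ext (by simpa using hm1) (by simpa using hm2)
  refine RingHom.ext fun x => ?_
  rw [← hm, hid]
  rfl

end Global

end Groth.Agent.DualTor32
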