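import Groth.Agent.DualTor32.Local
import Groth.Agent.DualTor32.Split
import Groth.Prelude.Def_BigSite

/-!
A covering sieve of the spectrum of a product of henselian local rings on the big fppf site contains
finitely many finite free algebras over the factors of a finite partition of the index set, all of
them splitting the given cover.
-/

set_option autoImplicit false
set_option backward.isDefEq.respectTransparency false
universe u

open CategoryTheory CategoryTheory.Limits AlgebraicGeometry TensorProduct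

noncomputable section

namespace Groth.Agent.DualTor32

/-- A covering sieve contains flat morphisms of finite presentation through any point. -/
theorem exists_flat_mem {X : Scheme.{u}} {R : Sieve X} (hR : R ∈ Scheme.fppfPrecoverage.toGrothendieck X) :
    ∀ {Y : Scheme.{u}} (f : Y ⟶ X) (y : Y),
      ∃ (W : Scheme.{u}) (g : W ⟶ Y) (w : W), g w = y ∧ Flat g ∧ LocallyOfFinitePresentation g ∧
        R.arrows (g ≫ f) := by
  change Scheme.fppfPrecoverage.Saturate X R at hR
  induction hR with
  | of X S hS =>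
    intro Y f y
    obtain ⟨hsurj, hP⟩ := hS
    obtain ⟨Z, g, hg, z, hz⟩ := (Presieve.mem_comap_jointlySurjectivePrecoverage_iff _).1 hsurj (f y)
    have : LocallyOfFinitePresentation g := (hP hg).2
    have : Flat g := (hP hg).1
    obtain ⟨p, hp, -⟩ := Scheme.Pullback.exists_preimage_pullback y z hz.symm
    exact ⟨pullback f g, pullback.fst f g, p, hp, inferInstance, inferInstance,
      ⟨Z, pullback.snd f g, g, hg, pullback.condition.symm⟩⟩
  | top X =>
    intro Y f y
    exact ⟨Y, 𝟙 Y, y, rfl, inferInstance, inferInstance, trivial⟩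
  | pullback X S _ Y' h ih =>
    intro Y f y
    obtain ⟨W, g, w, h1, h2, h2', h3⟩ := ih (f ≫ h) y
    exact ⟨W, g, w, h1, h2, h2', by simpa using h3⟩
  | transitive X S R _ _ ih1 ih2 =>
    intro Y f y
    obtain ⟨W, g, w, h1, h2, h2', h3⟩ := ih1 f y
    obtain ⟨W', g', w', k1, k2, k2', k3⟩ := ih2 h3 (𝟙 W) w
    exact ⟨W', g' ≫ g, w', by rw [Scheme.Hom.comp_apply, k1, h1], inferInstance, inferInstance, by simpa using k3⟩

/-- The objects of the site attached to an algebra. -/
abbrev spO {A : Type u} [CommRing A] (C : Type u) [CommRing C] [Algebra A C] :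
    Over (Spec (CommRingCat.of A)) :=
  Over.mk (Spec.map (CommRingCat.ofHom (algebraMap A C)))

/-- The final object of the site. -/
abbrev topO (A : Type u) [CommRing A] : Over (Spec (CommRingCat.of A)) :=
  Over.mk (𝟙 (Spec (CommRingCat.of A)))

theorem exists_qf_mem {A : Type u} [CommRing A] {R : Sieve (topO A)}
    (hR : R ∈ QuotSh.J Scheme.fppfPrecoverage (Spec (CommRingCat.of A)) (topO A)) (p : PrimeSpectrum A) :
    ∃ (B : Type u) (_ : CommRing B) (_ : Algebra A B),
      Algebra.FinitePresentation A B ∧ Module.Flat A B ∧ Algebra.QuasiFinite A B ∧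
      p ∈ Set.range (PrimeSpectrum.comap (algebraMap A B)) ∧ R.arrows (Over.mkIdTerminal.from (spO B)) := by
  obtain ⟨W, f, w, hw, hfl, hfp, hmem⟩ :=
    exists_flat_mem ((GrothendieckTopology.mem_over_iff _ _).1 hR) (𝟙 _) p
  obtain ⟨_, ⟨U, hU, rfl⟩, hwU, -⟩ := W.isBasis_affineOpens.exists_subset_of_mem_open
    (Set.mem_univ w) isOpen_univ
  obtain ⟨φ, hφ⟩ := Spec.map_surjective (hU.fromSpec ≫ f)
  algebraize [φ.hom]
  have : LocallyOfFinitePresentation (Spec.map φ) := by rw [hφ]; infer_instance
  have : Flat (Spec.map φ) := by rw [hφ]; infer_instance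
  have hfp' : φ.hom.FinitePresentation :=
    (HasRingHomProperty.Spec_iff (P := @LocallyOfFinitePresentation)).mp inferInstance
  have : Algebra.FinitePresentation A Γ(W, U) := RingHom.finitePresentation_algebraMap.mp hfp'
  have hfl' : φ.hom.Flat := (HasRingHomProperty.Spec_iff (P := @Flat)).mp inferInstance
  have : Module.Flat A Γ(W, U) := RingHom.flat_algebraMap_iff.mp hfl'
  obtain ⟨z, hz⟩ : w ∈ Set.range hU.fromSpec := by rw [hU.range_fromSpec]; exact hwU
  have hp : p ∈ Set.range (PrimeSpectrum.comap (algebraMap A Γ(W, U))) := ⟨z, by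
    show Spec.map φ z = p
    rw [hφ, Scheme.Hom.comp_apply, hz]
    exact hw⟩
  obtain ⟨B, _, _, j, h1, h2, h3, h4⟩ := Alg80.QuasiSection.exists_quasiSection p hp
  refine ⟨B, inferInstance, inferInstance, h1, h2, h3, h4, ?_⟩
  have hs := (Sieve.overEquiv_iff _ _).1 hmem
  have hi : (Spec.map (CommRingCat.ofHom j.toRingHom) ≫ hU.fromSpec) ≫ f ≫ 𝟙 _ = (spO (A := A) B).hom := by
    rw [Category.assoc, Category.comp_id, ← hφ, ← Spec.map_comp]
    congr 1
    ext a
    exact j.commutes a
  have := R.downward_closed hs (Over.homMk (U := spO (A := A) B)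
    (Spec.map (CommRingCat.ofHom j.toRingHom) ≫ hU.fromSpec) (by simpa using hi))
  convert this using 1
  exact Over.mkIdTerminal.hom_ext _ _

variable {A : Type u} [CommRing A] {V : Type u} {O : V → Type u} [∀ v, CommRing (O v)]

variable (O) in
/-- A class of indices. -/
abbrev AJ {ι : Type u} (c : V → ι) (j : ι) : Type u := Π v : {v // c v = j}, O v.1

/-- Restriction to a class. -/
abbrev subJ (π : ∀ v, A →+* O v) {ι : Type u} (c : V → ι) (j : ι) : A →+* AJ O c j :=
  RingHom.pi fun v => π v.1

theorem finrank_tensor_le {O' L T : Type u} [CommRing O'] [Nontrivial O'] [CommRing L] [Algebra O' L]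
    {A₀ : Type u} [CommRing A₀] [Algebra A₀ L] [CommRing T] [Algebra A₀ T] [SMulCommClass A₀ O' L]
    [Module.Free O' (L ⊗[A₀] T)] [Module.Finite O' (L ⊗[A₀] T)] {N M : ℕ} (g : Fin N → L)
    (hg : Submodule.span O' (Set.range g) = ⊤) (t : Fin M → T) (ht : Submodule.span A₀ (Set.range t) = ⊤) :
    Module.finrank O' (L ⊗[A₀] T) ≤ N * M := by
  have h : Submodule.span O' (Set.range fun p : Fin N × Fin M => g p.1 ⊗ₜ[A₀] t p.2) =
      (⊤ : Submodule O' (L ⊗[A₀] T)) := by
    rw [eq_top_iff]
    rintro x -
    induction x using TensorProduct.induction_on with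
    | zero => exact zero_mem _
    | add u v hu hv => exact add_mem hu hv
    | tmul l z =>
      have hz : z ∈ Submodule.span A₀ (Set.range t) := ht ▸ Submodule.mem_top
      induction hz using Submodule.span_induction generalizing l with
      | mem z hz =>
        obtain ⟨k, rfl⟩ := hz
        have hl : l ∈ Submodule.span O' (Set.range g) := hg ▸ Submodule.mem_top
        induction hl using Submodule.span_induction with
        | mem l hl =>
          obtain ⟨i, rfl⟩ := hl
          exact Submodule.subset_span ⟨(i, k), rfl⟩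
        | zero => rw [TensorProduct.zero_tmul]; exact zero_mem _
        | add u v _ _ hu hv => rw [TensorProduct.add_tmul]; exact add_mem hu hv
        | smul a u _ hu => rw [← TensorProduct.smul_tmul']; exact Submodule.smul_mem _ _ hu
      | zero => rw [TensorProduct.tmul_zero]; exact zero_mem _
      | add u v _ _ hu hv => rw [TensorProduct.tmul_add]; exact add_mem (hu l) (hv l)
      | smul a u _ hu => rw [← TensorProduct.smul_tmul]; exact hu (a • l)
  exact (finrank_le_of_span_eq_top h).trans_eq (by simp)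

/-- The componentwise algebra of a family of algebras. -/
@[instance_reducible]
def piAlg {I : Type u} (R : I → Type u) [∀ i, CommRing (R i)] (M : I → Type u) [∀ i, CommRing (M i)]
    [∀ i, Algebra (R i) (M i)] : Algebra (∀ i, R i) (∀ i, M i) where
  algebraMap := RingHom.pi fun i => (algebraMap (R i) (M i)).comp (Pi.evalRingHom R i)
  smul a x i := a i • x i
  commutes' a x := mul_comm _ _
  smul_def' a x := funext fun i => Algebra.smul_def _ _

/-- The free module of a family of free modules of the same rank. -/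
def piFreeEquiv {I : Type u} (R : I → Type u) [∀ i, CommRing (R i)] (M : I → Type u) [∀ i, CommRing (M i)]
    [∀ i, Algebra (R i) (M i)] {r : ℕ} (b : ∀ i, Module.Basis (Fin r) (R i) (M i)) :
    letI := piAlg R M
    (∀ i, M i) ≃ₗ[∀ i, R i] (Fin r → ∀ i, R i) :=
  letI := piAlg R M
  { toFun := fun x k i => (b i).equivFun (x i) k
    invFun := fun y i => (b i).equivFun.symm fun k => y k i
    left_inv := fun x => funext fun i => (b i).equivFun.symm_apply_apply (x i)
    right_inv := fun y => funext fun k => funext fun i =>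
      congrFun ((b i).equivFun.apply_symm_apply fun k => y k i) k
    map_add' := fun x y => funext fun k => funext fun i =>
      congrFun ((b i).equivFun.map_add (x i) (y i)) k
    map_smul' := fun a x => funext fun k => funext fun i =>
      congrFun ((b i).equivFun.map_smul (a i) (x i)) k }

set_option maxRecDepth 8000 in
/-- The finite partition and the finite free algebras. -/
theorem exists_family [∀ v, HenselianLocalRing (O v)] (π : ∀ v, A →+* O v)
    (hπ : ∀ v, Function.Surjective (π v)) {A₀ : Type u} [CommRing A₀] [Algebra A₀ A]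
    {B : Type u} [CommRing B] [Algebra A₀ B] {T : Type u} [CommRing T] [Algebra A₀ T]
    [Module.FaithfullyFlat A₀ T] [Module.Finite A₀ T] {n : ℕ} (s₀ : Spl A₀ B T n)
    (R : Sieve (topO A))
    (hR : R ∈ QuotSh.J Scheme.fppfPrecoverage (Spec (CommRingCat.of A)) (topO A)) :
    ∃ (ι : Type u) (_ : Finite ι) (c : V → ι) (C : ι → Type u) (_ : ∀ j, CommRing (C j))
      (_ : ∀ j, Algebra A (C j)) (_ : ∀ j, Algebra (AJ O c j) (C j)) (_ : ∀ j, Algebra A₀ (C j))
      (_ : ∀ j, IsScalarTower A₀ A (C j)),
      ∀ j, Module.Free (AJ O c j) (C j) ∧ Module.Finite (AJ O c j) (C j) ∧ Nontrivial (C j) ∧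
        algebraMap A (C j) = (algebraMap (AJ O c j) (C j)).comp (subJ π c j) ∧
        Nonempty (Spl A₀ B (C j) n) ∧ R.arrows (Over.mkIdTerminal.from (spO (C j))) := by
  classical
  choose Bp instB algB hfp hfl hqf hmem hRB using fun p => exists_qf_mem hR p
  choose q hq using fun p => hmem p
  have hz : ∀ p, ∃ B' : Subalgebra A (Bp p), B'.toSubmodule.FG ∧ ∃ r : B',
      r.1 ∉ (q p).asIdeal ∧ Function.Bijective (Localization.awayMap B'.val.toRingHom r) := fun p => by
    have := hfp p
    have := hqf p
    exact Algebra.QuasiFiniteAt.exists_fg_and_exists_notMem_and_awayMap_bijective _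
  choose B' hB' r hrq hr using hz
  have hfin : ∀ p, Module.Finite A (B' p) := fun p => ⟨(Submodule.fg_top _).mpr (hB' p)⟩
  choose N gen hgen using fun p => (hfin p).exists_fin
  obtain ⟨M, t, ht⟩ := (inferInstance : Module.Finite A₀ T).exists_fin
  let U : PrimeSpectrum A → Set (PrimeSpectrum A) :=
    fun p => PrimeSpectrum.comap (algebraMap A (Bp p)) '' (PrimeSpectrum.basicOpen ((r p : B' p) : Bp p))
  have hU : ∀ p, IsOpen (U p) := fun p => by
    have := hfp p
    have := hfl p
    exact PrimeSpectrum.isOpenMap_comap_of_hasGoingDown_of_finitePresentation _ (PrimeSpectrum.basicOpen _).2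
  obtain ⟨fs, hfs⟩ := isCompact_univ.elim_finite_subcover U hU
    (fun p _ => Set.mem_iUnion.mpr ⟨p, q p, hrq p, hq p⟩)
  have hpick : ∀ v, ∃ p : fs, PrimeSpectrum.comap ((IsLocalRing.residue (O v)).comp (π v))
      (IsLocalRing.closedPoint _) ∈ U p.1 := fun v => by
    obtain ⟨p, hp, h⟩ := Set.mem_iUnion₂.mp (hfs (Set.mem_univ (PrimeSpectrum.comap
      ((IsLocalRing.residue (O v)).comp (π v)) (IsLocalRing.closedPoint _))))
    exact ⟨⟨p, hp⟩, h⟩
  choose pv q₀ hq₀ hp₀ using hpick
  let instO : ∀ v, Algebra A (O v) := fun v => (π v).toAlgebra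
  have hloc : ∀ v, ∃ (L : Type u) (_ : CommRing L) (_ : Algebra (O v) L) (_ : Algebra A L)
      (_ : IsScalarTower A (O v) L) (_ : Nontrivial L) (_ : Module.Flat (O v) L)
      (_ : Bp (pv v).1 →ₐ[A] L) (g : Fin (N (pv v).1) → L),
        Submodule.span (O v) (Set.range g) = ⊤ := fun v => by
    have := hfl (pv v).1
    have := hfin (pv v).1
    exact exists_local_point (B' (pv v).1) (gen (pv v).1) (hgen (pv v).1) (r (pv v).1) (hr (pv v).1) (O v)
      (IsLocalRing.residue_surjective.comp (hπ v)) (q₀ v) (hq₀ v) (hp₀ v)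
  choose L instL algOL algAL towL ntL flatL θ g hg using hloc
  let alg₀ : ∀ v, Algebra A₀ (O v) := fun v => ((π v).comp (algebraMap A₀ A)).toAlgebra
  let alg₀L : ∀ v, Algebra A₀ (L v) := fun v =>
    ((algebraMap (O v) (L v)).comp (algebraMap A₀ (O v))).toAlgebra
  have tow₀ : ∀ v, IsScalarTower A₀ (O v) (L v) := fun v => .of_algebraMap_eq fun _ => rfl
  have hfinL : ∀ v, Module.Finite (O v) (L v) := fun v =>
    ⟨⟨Finset.univ.image (g v), by simpa using hg v⟩⟩
  have hfinLT : ∀ v, Module.Finite (O v) (L v ⊗[A₀] T) := fun v => Module.Finite.trans (L v) _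
  have hflatLT : ∀ v, Module.Flat (O v) (L v ⊗[A₀] T) := fun v => Module.Flat.trans (O v) (L v) _
  have hfreeLT : ∀ v, Module.Free (O v) (L v ⊗[A₀] T) := fun v => Module.free_of_flat_of_isLocalRing
  have hntLT : ∀ v, Nontrivial (L v ⊗[A₀] T) := fun v => inferInstance
  let bound : ℕ := (fs.sup fun p => N p) * M
  have hbound : ∀ v, Module.finrank (O v) (L v ⊗[A₀] T) ≤ bound := fun v =>
    (finrank_tensor_le (g v) (hg v) t ht).trans
      (Nat.mul_le_mul_right _ (Finset.le_sup (f := fun p => N p) (pv v).2))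
  let cls : V → fs × Fin (bound + 1) := fun v => (pv v, ⟨_, Nat.lt_succ_of_le (hbound v)⟩)
  let ι := ↥(Set.range cls)
  let c : V → ι := fun v => ⟨cls v, v, rfl⟩
  have hc : ∀ (j : ι) (v : {v // c v = j}), cls v.1 = j.1 := fun j v => congrArg Subtype.val v.2
  let C : ι → Type u := fun j => Π v : {v // c v = j}, (L v.1 ⊗[A₀] T)
  let ringC : ∀ j, CommRing (C j) := fun j =>
    inferInstanceAs (CommRing (Π v : {v // c v = j}, (L v.1 ⊗[A₀] T)))
  let hJ : ∀ j, AJ O c j →+* C j := fun j =>
    RingHom.pi fun v => (algebraMap (O v.1) (L v.1 ⊗[A₀] T)).comp (Pi.evalRingHom _ v)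
  let algJ : ∀ j, Algebra (AJ O c j) (C j) := fun j =>
    piAlg (fun v : {v // c v = j} => O v.1) (fun v : {v // c v = j} => L v.1 ⊗[A₀] T)
  let algA : ∀ j, Algebra A (C j) := fun j => ((hJ j).comp (subJ π c j)).toAlgebra
  let algC₀ : ∀ j, Algebra A₀ (C j) := fun j =>
    (((hJ j).comp (subJ π c j)).comp (algebraMap A₀ A)).toAlgebra
  refine ⟨ι, inferInstance, c, C, ringC, algA, algJ, algC₀, fun j => .of_algebraMap_eq fun _ => rfl, fun j => ?_⟩
  have hrk : ∀ v : {v // c v = j}, Module.finrank (O v.1) (L v.1 ⊗[A₀] T) = j.1.2.1 := fun v =>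
    congrArg (fun x : fs × Fin (bound + 1) => x.2.1) (hc j v)
  let e : C j ≃ₗ[AJ O c j] (Fin j.1.2.1 → AJ O c j) :=
    piFreeEquiv (fun v : {v // c v = j} => O v.1) (fun v : {v // c v = j} => L v.1 ⊗[A₀] T)
      (fun v => Module.finBasisOfFinrankEq _ _ (hrk v))
  have hne : Nonempty {v // c v = j} := by
    obtain ⟨v, hv⟩ := j.2
    exact ⟨⟨v, Subtype.ext hv⟩⟩
  have : Nontrivial (C j) := by
    obtain ⟨v⟩ := hne
    exact Pi.nontrivial_at v
  refine ⟨Module.Free.of_equiv e.symm, Module.Finite.equiv e.symm, inferInstance, rfl, ⟨s₀.map ?_⟩, ?_⟩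
  · exact
      { toRingHom := RingHom.pi fun v : {v // c v = j} =>
          (Algebra.TensorProduct.includeRight : T →ₐ[A₀] L v.1 ⊗[A₀] T).toRingHom
        commutes' := fun a => funext fun v => by
          show (Algebra.TensorProduct.includeRight : T →ₐ[A₀] L v.1 ⊗[A₀] T) (algebraMap A₀ T a) = _
          rw [AlgHom.commutes]
          rfl }
  · have hcast : ∀ v : {v // c v = j}, pv v.1 = j.1.1 := fun v =>
      congrArg (fun x : fs × Fin (bound + 1) => x.1) (hc j v)
    let θ' : ∀ v : {v // c v = j}, Bp j.1.1.1 →+* L v.1 ⊗[A₀] T := fun v =>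
      (Algebra.TensorProduct.includeLeftRingHom).comp
        ((hcast v) ▸ (θ v.1).toRingHom : Bp j.1.1.1 →+* L v.1)
    have hθ' : ∀ (v : {v // c v = j}) (a : A),
        θ' v (algebraMap _ (Bp j.1.1.1) a) = algebraMap (O v.1) (L v.1 ⊗[A₀] T) (π v.1 a) := by
      intro v a
      have key : ∀ (p : fs) (h : pv v.1 = p),
          (h ▸ (θ v.1).toRingHom : Bp p.1 →+* L v.1) (algebraMap _ (Bp p.1) a) = algebraMap (O v.1) (L v.1) (π v.1 a) := by
        rintro p rfl
        exact ((θ v.1).commutes a).trans (IsScalarTower.algebraMap_apply A (O v.1) (L v.1) a)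
      show Algebra.TensorProduct.includeLeftRingHom (_ : L v.1) = _
      rw [key j.1.1 (hcast v)]
      rfl
    let χ : spO (A := A) (C j) ⟶ spO (Bp j.1.1.1) :=
      Over.homMk (Spec.map (CommRingCat.ofHom (RingHom.pi θ'))) (by
        show Spec.map _ ≫ Spec.map _ = Spec.map _
        rw [← Spec.map_comp, ← CommRingCat.ofHom_comp]
        congr 2
        exact RingHom.ext fun a => funext fun v => hθ' v a)
    have := R.downward_closed (hRB j.1.1.1) χ
    convert this using 1
    exact Over.mkIdTerminal.hom_ext _ _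

end Groth.Agent.DualTor32
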