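import Groth.Agent.DualTor32.SiteH1
import Groth.Agent.DualTor32.Cochain
import Groth.Agent.DualTor32.Refine
import Groth.Prelude.Def_AdFn

/-!
`H¹` of the dual of the direct image of `𝔾_m` vanishes over a product of henselian local rings.
-/

set_option autoImplicit false
set_option backward.isDefEq.respectTransparency false
universe u

open CategoryTheory CategoryTheory.Limits AlgebraicGeometry Opposite TensorProduct

noncomputable section

namespace Groth.Agent.DualTor32

theorem bot_mem_over {X : Scheme.{u}} (Z : Over X) (h : IsEmpty Z.left) :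
    (⊥ : Sieve Z) ∈ QuotSh.J Scheme.fppfPrecoverage X Z := by
  rw [GrothendieckTopology.mem_over_iff]
  have := h
  have hb : Sieve.overEquiv Z ⊥ = (⊥ : Sieve Z.left) := by
    ext Y f
    rw [Sieve.overEquiv_iff]
    simp
  rw [hb]
  exact Scheme.bot_mem_grothendieckTopology Z.left

section

variable {A₀ : Type u} [CommRing A₀] {A : Type u} [CommRing A] [Algebra A₀ A]
  (C : Type u) [CommRing C] [Algebra A C] [Algebra A₀ C] [IsScalarTower A₀ A C]

/-- An object over `Spec A` seen over `Spec A₀`. -/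
def downIso : sp (K := A₀) C ≅
    (Over.map (Spec.map (CommRingCat.ofHom (algebraMap A₀ A)))).obj (spO (A := A) C) :=
  Over.isoMk (Iso.refl _) (by
    show 𝟙 _ ≫ Spec.map _ ≫ Spec.map _ = Spec.map _
    rw [Category.id_comp, ← Spec.map_comp, ← CommRingCat.ofHom_comp, IsScalarTower.algebraMap_eq A₀ A C])

/-- A morphism over `Spec A` from an algebra homomorphism. -/
def spOMap {C' : Type u} [CommRing C'] [Algebra A C'] (ψ : C →ₐ[A] C') : spO (A := A) C' ⟶ spO C :=
  Over.homMk (Spec.map (CommRingCat.ofHom ψ.toRingHom)) (by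
    show Spec.map _ ≫ Spec.map _ = Spec.map _
    rw [← Spec.map_comp, ← CommRingCat.ofHom_comp]
    exact congrArg (fun f => Spec.map (CommRingCat.ofHom f)) ψ.comp_algebraMap)

theorem downIso_hom_comp {C' : Type u} [CommRing C'] [Algebra A C'] [Algebra A₀ C'] [IsScalarTower A₀ A C']
    (ψ : C →ₐ[A] C') :
    (downIso (A₀ := A₀) C').hom ≫ (Over.map (Spec.map (CommRingCat.ofHom (algebraMap A₀ A)))).map (spOMap C ψ) =
      spMap (ψ.restrictScalars A₀) ≫ (downIso C).hom := by
  apply Over.OverMorphism.ext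
  show 𝟙 _ ≫ Spec.map _ = Spec.map _ ≫ 𝟙 _
  rw [Category.id_comp, Category.comp_id]
  rfl

theorem map_spOMap {F : BigSite.Ab Scheme.fppfPrecoverage (Spec (CommRingCat.of A₀))}
    {C' : Type u} [CommRing C'] [Algebra A C'] [Algebra A₀ C'] [IsScalarTower A₀ A C'] (ψ : C →ₐ[A] C')
    (x : F.obj.obj (op ((Over.map (Spec.map (CommRingCat.ofHom (algebraMap A₀ A)))).obj (spO (A := A) C)))) :
    F.obj.map (downIso (A₀ := A₀) C').hom.op
      (F.obj.map ((Over.map (Spec.map (CommRingCat.ofHom (algebraMap A₀ A)))).map (spOMap C ψ)).op x) =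
      F.obj.map (spMap (ψ.restrictScalars A₀)).op (F.obj.map (downIso C).hom.op x) := by
  rw [← ConcreteCategory.comp_apply, ← ConcreteCategory.comp_apply, ← F.obj.map_comp, ← F.obj.map_comp,
    ← op_comp, ← op_comp, downIso_hom_comp]

end

/-- A pair of points with the same image is a point of the spectrum of the tensor product. -/
theorem exists_specLift (R S : Type u) [CommRing R] [CommRing S] [Algebra R S] {X : Scheme.{u}}
    (a b : X ⟶ Spec (CommRingCat.of S))
    (hw : a ≫ Spec.map (CommRingCat.ofHom (algebraMap R S)) = b ≫ Spec.map (CommRingCat.ofHom (algebraMap R S))) :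
    ∃ h : X ⟶ Spec (CommRingCat.of (S ⊗[R] S)),
      h ≫ Spec.map (CommRingCat.ofHom (Algebra.TensorProduct.includeLeftRingHom : S →+* S ⊗[R] S)) = a ∧
      h ≫ Spec.map (CommRingCat.ofHom (Algebra.TensorProduct.includeRight : S →ₐ[R] S ⊗[R] S).toRingHom) = b := by
  refine ⟨pullback.lift a b hw ≫ (pullbackSpecIso R S S).hom, ?_, ?_⟩
  · rw [Category.assoc, pullbackSpecIso_hom_fst, pullback.lift_fst]
  · rw [Category.assoc]
    refine (congrArg (pullback.lift a b hw ≫ ·) (pullbackSpecIso_hom_snd R S S)).trans ?_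
    rw [pullback.lift_snd]

section Member

variable {A₀ : Type u} [CommRing A₀] {A : Type u} [CommRing A] [Algebra A₀ A]
variable (A' : Type u) [CommRing A'] [Algebra A A'] (C : Type u) [CommRing C] [Algebra A C] [Algebra A' C]
  [IsScalarTower A A' C]

/-- The first projection. -/
abbrev pr₁ : spO (A := A) (C ⊗[A'] C) ⟶ spO C :=
  spOMap C ((Algebra.TensorProduct.includeLeft : C →ₐ[A'] C ⊗[A'] C).restrictScalars A)

/-- The second projection. -/
abbrev pr₂ : spO (A := A) (C ⊗[A'] C) ⟶ spO C :=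
  spOMap C ((Algebra.TensorProduct.includeRight : C →ₐ[A'] C ⊗[A'] C).restrictScalars A)

theorem pair_lift [Mono (Spec.map (CommRingCat.ofHom (algebraMap A A')))] (Z : Over (Spec (CommRingCat.of A)))
    (a b : Z ⟶ spO (A := A) C) :
    ∃ h : Z ⟶ spO (A := A) (C ⊗[A'] C), h ≫ pr₁ A' C = a ∧ h ≫ pr₂ A' C = b := by
  have hstr : (spO (A := A) C).hom =
      Spec.map (CommRingCat.ofHom (algebraMap A' C)) ≫ Spec.map (CommRingCat.ofHom (algebraMap A A')) := by
    show Spec.map _ = _
    rw [IsScalarTower.algebraMap_eq A A' C, CommRingCat.ofHom_comp, Spec.map_comp]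
  have hw : a.left ≫ Spec.map (CommRingCat.ofHom (algebraMap A' C)) =
      b.left ≫ Spec.map (CommRingCat.ofHom (algebraMap A' C)) := by
    rw [← cancel_mono (Spec.map (CommRingCat.ofHom (algebraMap A A'))), Category.assoc, Category.assoc, ← hstr]
    exact (Over.w a).trans (Over.w b).symm
  obtain ⟨h, h₁, h₂⟩ := exists_specLift A' C a.left b.left hw
  have hi : Spec.map (CommRingCat.ofHom (algebraMap A (C ⊗[A'] C))) =
      Spec.map (CommRingCat.ofHom (Algebra.TensorProduct.includeLeftRingHom : C →+* C ⊗[A'] C)) ≫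
        Spec.map (CommRingCat.ofHom (algebraMap A C)) := by
    rw [← Spec.map_comp, ← CommRingCat.ofHom_comp]
    exact congrArg (fun f => Spec.map (CommRingCat.ofHom f))
      (((Algebra.TensorProduct.includeLeft : C →ₐ[A'] C ⊗[A'] C).restrictScalars A).comp_algebraMap).symm
  refine ⟨Over.homMk h ?_, ?_, ?_⟩
  · show h ≫ Spec.map (CommRingCat.ofHom (algebraMap A (C ⊗[A'] C))) = _
    rw [hi, ← Category.assoc, h₁]
    exact Over.w a
  · apply Over.OverMorphism.ext
    exact h₁
  · apply Over.OverMorphism.ext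
    exact h₂

variable [Algebra A₀ A'] [IsScalarTower A₀ A A'] [Algebra A₀ C] [IsScalarTower A₀ A' C] [IsScalarTower A₀ A C]
  {B : Type u} [CommRing B] [Algebra A₀ B] [Module.Finite A' C] [Module.Free A' C]

theorem member_coboundary {n : ℕ} (s : Spl A₀ B C n)
    (x : ((BigSite.pullBig Scheme.fppfPrecoverage (Spec.map (CommRingCat.ofHom (algebraMap A₀ A)))
      AddCommGrpCat.{u + 1}).obj (D A₀ B)).obj.obj (op (spO (A := A) (C ⊗[A'] C))))
    (hx : ∀ (Z : Over (Spec (CommRingCat.of A))) (q₁₂ q₂₃ q₁₃ : Z ⟶ spO (A := A) (C ⊗[A'] C)),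
      q₁₂ ≫ pr₁ A' C = q₁₃ ≫ pr₁ A' C → q₁₂ ≫ pr₂ A' C = q₂₃ ≫ pr₁ A' C →
      q₁₃ ≫ pr₂ A' C = q₂₃ ≫ pr₂ A' C →
      ((BigSite.pullBig Scheme.fppfPrecoverage (Spec.map (CommRingCat.ofHom (algebraMap A₀ A)))
        AddCommGrpCat.{u + 1}).obj (D A₀ B)).obj.map q₁₃.op x =
      ((BigSite.pullBig Scheme.fppfPrecoverage (Spec.map (CommRingCat.ofHom (algebraMap A₀ A)))
        AddCommGrpCat.{u + 1}).obj (D A₀ B)).obj.map q₁₂.op x +
      ((BigSite.pullBig Scheme.fppfPrecoverage (Spec.map (CommRingCat.ofHom (algebraMap A₀ A)))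
        AddCommGrpCat.{u + 1}).obj (D A₀ B)).obj.map q₂₃.op x) :
    ∃ m : ((BigSite.pullBig Scheme.fppfPrecoverage (Spec.map (CommRingCat.ofHom (algebraMap A₀ A)))
        AddCommGrpCat.{u + 1}).obj (D A₀ B)).obj.obj (op (spO (A := A) C)),
      ((BigSite.pullBig Scheme.fppfPrecoverage (Spec.map (CommRingCat.ofHom (algebraMap A₀ A)))
        AddCommGrpCat.{u + 1}).obj (D A₀ B)).obj.map (pr₂ A' C).op m -
      ((BigSite.pullBig Scheme.fppfPrecoverage (Spec.map (CommRingCat.ofHom (algebraMap A₀ A)))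
        AddCommGrpCat.{u + 1}).obj (D A₀ B)).obj.map (pr₁ A' C).op m = x := by
  let Q := (C ⊗[A'] C) ⊗[A'] C
  let f₁₂ : C ⊗[A'] C →ₐ[A] Q := (Algebra.TensorProduct.includeLeft : C ⊗[A'] C →ₐ[A'] Q).restrictScalars A
  let f₂₃ : C ⊗[A'] C →ₐ[A] Q := (Algebra.TensorProduct.map
    (Algebra.TensorProduct.includeRight : C →ₐ[A'] C ⊗[A'] C) (AlgHom.id A' C)).restrictScalars A
  let f₁₃ : C ⊗[A'] C →ₐ[A] Q := (Algebra.TensorProduct.map
    (Algebra.TensorProduct.includeLeft : C →ₐ[A'] C ⊗[A'] C) (AlgHom.id A' C)).restrictScalars A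
  have hcomp : ∀ (f g : C ⊗[A'] C →ₐ[A] Q) (p q : C →ₐ[A] C ⊗[A'] C), f.comp p = g.comp q →
      spOMap (C ⊗[A'] C) f ≫ spOMap C p = spOMap (C ⊗[A'] C) g ≫ spOMap C q :=
    fun f g p q h => Over.OverMorphism.ext (by
      show Spec.map _ ≫ Spec.map _ = Spec.map _ ≫ Spec.map _
      rw [← Spec.map_comp, ← Spec.map_comp]
      exact congrArg (fun φ : C →ₐ[A] Q => Spec.map (CommRingCat.ofHom φ.toRingHom)) h)
  have hcoc := hx (spO (A := A) Q) (spOMap _ f₁₂) (spOMap _ f₂₃) (spOMap _ f₁₃)
    (hcomp _ _ _ _ (AlgHom.ext fun t => rfl)) (hcomp _ _ _ _ (AlgHom.ext fun t => rfl))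
    (hcomp _ _ _ _ (AlgHom.ext fun t => rfl))
  let x₀ := (D A₀ B).obj.map (downIso (A := A) (A₀ := A₀) (C ⊗[A'] C)).hom.op x
  have hx₀ : (D A₀ B).obj.map (spMap (q13 A₀ A' C)).op x₀ =
      (D A₀ B).obj.map (spMap (q12 A₀ A' C)).op x₀ + (D A₀ B).obj.map (spMap (q23 A₀ A' C)).op x₀ := by
    have e₁₂ : f₁₂.restrictScalars A₀ = q12 A₀ A' C := AlgHom.ext fun _ => rfl
    have e₂₃ : f₂₃.restrictScalars A₀ = q23 A₀ A' C := AlgHom.ext fun _ => rfl
    have e₁₃ : f₁₃.restrictScalars A₀ = q13 A₀ A' C := AlgHom.ext fun _ => rfl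
    rw [← e₁₂, ← e₂₃, ← e₁₃]
    refine (map_spOMap (F := D A₀ B) _ f₁₃ x).symm.trans ?_
    refine (congrArg ((D A₀ B).obj.map (downIso (A := A) (A₀ := A₀) Q).hom.op) hcoc).trans ?_
    refine (map_add _ _ _).trans ?_
    exact congrArg₂ (· + ·) (map_spOMap (F := D A₀ B) _ f₁₂ x) (map_spOMap (F := D A₀ B) _ f₂₃ x)
  obtain ⟨m, hm⟩ := exists_eq_coboundary (A := A') s x₀ hx₀
  refine ⟨(D A₀ B).obj.map (downIso (A := A) (A₀ := A₀) C).inv.op m, ?_⟩
  apply (ConcreteCategory.bijective_of_isIso
    ((D A₀ B).obj.map (downIso (A := A) (A₀ := A₀) (C ⊗[A'] C)).hom.op)).1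
  have hback : (D A₀ B).obj.map (downIso (A := A) (A₀ := A₀) C).hom.op
      ((D A₀ B).obj.map (downIso (A := A) (A₀ := A₀) C).inv.op m) = m := by
    rw [← ConcreteCategory.comp_apply, ← (D A₀ B).obj.map_comp, ← op_comp, Iso.hom_inv_id, op_id,
      CategoryTheory.Functor.map_id]
    rfl
  have e₁ : ((Algebra.TensorProduct.includeLeft : C →ₐ[A'] C ⊗[A'] C).restrictScalars A).restrictScalars A₀ =
      inl₂ A₀ A' C := AlgHom.ext fun _ => rfl
  have e₂ : ((Algebra.TensorProduct.includeRight : C →ₐ[A'] C ⊗[A'] C).restrictScalars A).restrictScalars A₀ =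
      inr₂ A₀ A' C := AlgHom.ext fun _ => rfl
  rw [← e₁, ← e₂] at hm
  refine (map_sub _ _ _).trans (Eq.trans ?_ hm)
  exact congrArg₂ (· - ·) ((map_spOMap (F := D A₀ B) _ _ _).trans (congrArg _ hback))
    ((map_spOMap (F := D A₀ B) _ _ _).trans (congrArg _ hback))

end Member

variable {A : Type u} [CommRing A] {V : Type u} {O : V → Type u} [∀ v, CommRing (O v)] (π : ∀ v, A →+* O v)
variable {A₀ : Type u} [CommRing A₀] [Algebra A₀ A] {B : Type u} [CommRing B] [Algebra A₀ B]

variable {π}

theorem subJ_surjective (hπ : Function.Bijective (RingHom.pi π)) {ι : Type u} (c : V → ι) (j : ι) :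
    Function.Surjective (subJ π c j) := fun y => by
  classical
  obtain ⟨a, ha⟩ := hπ.2 fun v => if h : c v = j then y ⟨v, h⟩ else 0
  exact ⟨a, funext fun v => (congrFun ha v.1).trans (by simp [v.2])⟩

theorem eval_surjective (hπ : Function.Bijective (RingHom.pi π)) (v : V) : Function.Surjective (π v) := fun y => by
  classical
  obtain ⟨a, ha⟩ := hπ.2 (Pi.single v y)
  exact ⟨a, (congrFun ha v).trans (Pi.single_eq_same v y)⟩

theorem exists_ind (hπ : Function.Bijective (RingHom.pi π)) {ι : Type u} [DecidableEq ι] (c : V → ι) (j : ι) :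
    ∃ e : A, ∀ v, π v e = if c v = j then 1 else 0 := by
  obtain ⟨a, ha⟩ := hπ.2 fun v => if c v = j then 1 else 0
  exact ⟨a, fun v => congrFun ha v⟩

theorem ext_pi (hπ : Function.Bijective (RingHom.pi π)) {a b : A} (h : ∀ v, π v a = π v b) : a = b :=
  hπ.1 (funext h)

theorem isOpenImmersion_subJ (hπ : Function.Bijective (RingHom.pi π)) {ι : Type u} (c : V → ι) (j : ι) :
    IsOpenImmersion (Spec.map (CommRingCat.ofHom (subJ π c j))) := by
  classical
  obtain ⟨e, he⟩ := exists_ind hπ c j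
  refine (isOpenImmersion_SpecMap_iff_of_surjective _ (subJ_surjective hπ c j)).2 ⟨1 - e, ?_, ?_⟩
  · refine ext_pi hπ fun v => ?_
    rw [map_mul, map_sub, map_one, he]
    by_cases h : c v = j <;> simp [h]
  · refine le_antisymm (fun x hx => Ideal.mem_span_singleton.2 ⟨x, ext_pi hπ fun v => ?_⟩) ?_
    · rw [map_mul, map_sub, map_one, he]
      by_cases h : c v = j
      · simp [h, show π v x = 0 from congrFun (RingHom.mem_ker.1 hx) ⟨v, h⟩]
      · simp [h]
    · rw [Ideal.span_le, Set.singleton_subset_iff]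
      exact funext fun v => show π v.1 (1 - e) = 0 by rw [map_sub, map_one, he, if_pos v.2, sub_self]

theorem family_mem (hπ : Function.Bijective (RingHom.pi π)) {ι : Type u} [Finite ι] (c : V → ι) (C : ι → Type u) [∀ j, CommRing (C j)]
    [∀ j, Algebra A (C j)] [∀ j, Algebra (AJ O c j) (C j)]
    (hfree : ∀ j, Module.Free (AJ O c j) (C j)) (hfinC : ∀ j, Module.Finite (AJ O c j) (C j))
    (hnt : ∀ j, Nontrivial (C j))
    (hfac : ∀ j, algebraMap A (C j) = (algebraMap (AJ O c j) (C j)).comp (subJ π c j))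
    (hT : IsTerminal (topO A)) :
    Sieve.ofArrows (fun j => spO (A := A) (C j)) (fun j => hT.from _) ∈
      QuotSh.J Scheme.fppfPrecoverage (Spec (CommRingCat.of A)) (topO A) := by
  classical
  have hstr : ∀ j, (spO (A := A) (C j)).hom =
      Spec.map (CommRingCat.ofHom (algebraMap (AJ O c j) (C j))) ≫ Spec.map (CommRingCat.ofHom (subJ π c j)) :=
    fun j => by
      show Spec.map _ = _
      rw [hfac, CommRingCat.ofHom_comp, Spec.map_comp]
  rw [GrothendieckTopology.mem_over_iff]
  refine GrothendieckTopology.superset_covering _ ?_ (Precoverage.generate_mem_toGrothendieck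
    (R := Presieve.ofArrows (fun j => (spO (A := A) (C j)).left) (fun j => (spO (A := A) (C j)).hom)) ?_)
  · rw [Sieve.generate_le_iff]
    rintro Y f ⟨j⟩
    rw [Sieve.overEquiv_iff]
    refine (Sieve.mem_ofArrows_iff _ _ _).2 ⟨j, Over.homMk (𝟙 _) ((Category.id_comp _).trans (Category.comp_id _).symm), ?_⟩
    exact hT.hom_ext _ _
  · refine ⟨(Presieve.mem_comap_jointlySurjectivePrecoverage_iff _).2 fun p => ?_, ?_⟩
    · let p' : PrimeSpectrum A := p
      choose ind hind using fun j => exists_ind hπ c j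
      obtain ⟨j, hj⟩ : ∃ j, ind j ∉ p'.asIdeal := by
        by_contra! h
        apply p'.isPrime.ne_top
        rw [Ideal.eq_top_iff_one]
        have := Fintype.ofFinite ι
        have : (1 : A) = ∑ j, ind j := ext_pi hπ fun v => by simp [map_sum, hind]
        rw [this]
        exact Ideal.sum_mem _ fun j _ => h j
      have hker : RingHom.ker (subJ π c j) ≤ p'.asIdeal := fun t ht => by
        have h0 : t * ind j = 0 := ext_pi hπ fun v => by
          rw [map_mul, map_zero, hind]
          by_cases h : c v = j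
          · simp [show π v t = 0 from congrFun (RingHom.mem_ker.1 ht) ⟨v, h⟩]
          · simp [h]
        exact (p'.isPrime.mem_or_mem (h0 ▸ zero_mem _)).resolve_right hj
      obtain ⟨y, hy⟩ : p' ∈ Set.range (PrimeSpectrum.comap (subJ π c j)) := by
        rw [range_comap_of_surjective _ _ (subJ_surjective hπ c j)]
        exact hker
      have := hfree j
      have := hfinC j
      have := hnt j
      have : Module.FaithfullyFlat (AJ O c j) (C j) := inferInstance
      obtain ⟨z, hz⟩ := PrimeSpectrum.comap_surjective_of_faithfullyFlat (B := C j) y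
      refine ⟨_, _, Presieve.ofArrows.mk j, z, ?_⟩
      show PrimeSpectrum.comap (algebraMap A (C j)) z = p'
      rw [hfac, PrimeSpectrum.comap_comp_apply, hz, hy]
    · intro Y f hf
      obtain ⟨j⟩ := hf
      have := hfree j
      have := hfinC j
      have := isOpenImmersion_subJ hπ c j
      have : Module.FinitePresentation (AJ O c j) (C j) := Module.finitePresentation_of_projective _ _
      have : Flat (Spec.map (CommRingCat.ofHom (algebraMap (AJ O c j) (C j)))) :=
        (HasRingHomProperty.Spec_iff (P := @Flat)).2 (RingHom.flat_algebraMap_iff.2 inferInstance)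
      have : LocallyOfFinitePresentation (Spec.map (CommRingCat.ofHom (algebraMap (AJ O c j) (C j)))) :=
        (HasRingHomProperty.Spec_iff (P := @LocallyOfFinitePresentation)).2
          (RingHom.finitePresentation_algebraMap.2 inferInstance)
      rw [hstr j]
      exact ⟨(inferInstance : Flat _), (inferInstance : LocallyOfFinitePresentation _)⟩

set_option maxRecDepth 8000 in
/-- `H¹` vanishes over a product of henselian local rings. -/
theorem subsingleton_HU (hπ : Function.Bijective (RingHom.pi π)) [∀ v, HenselianLocalRing (O v)] {T : Type u} [CommRing T] [Algebra A₀ T]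
    [Module.FaithfullyFlat A₀ T] [Module.Finite A₀ T] {n : ℕ} (s₀ : Spl A₀ B T n) :
    Subsingleton (BigSite.HU Scheme.fppfPrecoverage (D A₀ B) 1
      (AdFn.specOf (algebraMap A₀ A))) := by
  classical
  let u := Spec.map (CommRingCat.ofHom (algebraMap A₀ A))
  let F := (BigSite.pullBig Scheme.fppfPrecoverage u AddCommGrpCat.{u + 1}).obj (D A₀ B)
  show Subsingleton (Sheaf.H F 1)
  let hT : IsTerminal (topO A) := Over.mkIdTerminal
  refine subsingleton_H1.{u} F hT fun R hR => ?_
  obtain ⟨ι, _, c, C, instC, algA, algJ, alg₀, tow, hC⟩ := exists_family π (eval_surjective hπ) s₀ R hR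
  choose hfree hfinC hnt hfac hspl hmem using hC
  let algAJ : ∀ j, Algebra A (AJ O c j) := fun j => (subJ π c j).toAlgebra
  have towJ : ∀ j, IsScalarTower A (AJ O c j) (C j) := fun j =>
    .of_algebraMap_eq fun a => DFunLike.congr_fun (hfac j) a
  let alg₀J : ∀ j, Algebra A₀ (AJ O c j) := fun j => ((subJ π c j).comp (algebraMap A₀ A)).toAlgebra
  have tow₀J : ∀ j, IsScalarTower A₀ A (AJ O c j) := fun j => .of_algebraMap_eq fun _ => rfl
  have tow₀C : ∀ j, IsScalarTower A₀ (AJ O c j) (C j) := fun j => .of_algebraMap_eq fun a => by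
    rw [IsScalarTower.algebraMap_apply A₀ A (C j), IsScalarTower.algebraMap_apply A (AJ O c j) (C j)]
    rfl
  refine ⟨⟨ι, fun j => spO (A := A) (C j), fun j => spO (A := A) (C j ⊗[AJ O c j] C j),
    fun j => pr₁ (AJ O c j) (C j), fun j => pr₂ (AJ O c j) (C j), fun j Z a b => ?_, fun j => ?_,
    family_mem hπ c C hfree hfinC hnt hfac hT, ?_⟩, fun j x hx => ?_⟩
  · have : IsOpenImmersion (Spec.map (CommRingCat.ofHom (algebraMap A (AJ O c j)))) :=
      isOpenImmersion_subJ hπ c j
    exact pair_lift (AJ O c j) (C j) Z a b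
  · exact hmem j
  · intro i j hij Z a b
    refine bot_mem_over Z ⟨fun z => ?_⟩
    obtain ⟨e, he⟩ := exists_ind hπ c i
    obtain ⟨a', ha⟩ := Spec.map_surjective (Z.left.fromSpecResidueField z ≫ a.left)
    obtain ⟨b', hb⟩ := Spec.map_surjective (Z.left.fromSpecResidueField z ≫ b.left)
    have h1 : a'.hom.comp (algebraMap A (C i)) = b'.hom.comp (algebraMap A (C j)) := by
      have h : Spec.map a' ≫ (spO (A := A) (C i)).hom = Spec.map b' ≫ (spO (A := A) (C j)).hom := by
        rw [ha, hb, Category.assoc, Category.assoc, Over.w a, Over.w b]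
      exact congrArg CommRingCat.Hom.hom (Spec.map_injective ((Spec.map_comp _ _).trans (h.trans (Spec.map_comp _ _).symm)))
    have h2 := DFunLike.congr_fun h1 e
    rw [RingHom.comp_apply, RingHom.comp_apply, DFunLike.congr_fun (hfac i) e, DFunLike.congr_fun (hfac j) e,
      RingHom.comp_apply, RingHom.comp_apply,
      show subJ π c i e = 1 from funext fun v => (he v.1).trans (if_pos v.2),
      show subJ π c j e = 0 from funext fun v => (he v.1).trans (if_neg fun h => hij (h.symm.trans v.2)),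
      map_one, map_one, map_zero, map_zero] at h2
    exact one_ne_zero h2
  · have := hfree j
    have := hfinC j
    obtain ⟨sj⟩ := hspl j
    exact member_coboundary (AJ O c j) (C j) sj x hx

end Groth.Agent.DualTor32
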