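import Groth.Agent.DualTor32.Split
import Mathlib.Algebra.Group.Pi.Units

/-!
Over an algebra `Y` with a splitting of the cover, sections of the dual sheaf are the same as families
of group-like Laurent polynomials indexed by the sheets.
-/

set_option autoImplicit false
set_option backward.isDefEq.respectTransparency false
universe u v

open CategoryTheory CategoryTheory.Limits AlgebraicGeometry Opposite TensorProduct
open AddMonoidAlgebra (single)

noncomputable section

namespace Groth.Agent.DualTor32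

attribute [local instance] secAlg
attribute [-simp] Over.pullback_obj_left

section Lau

variable {Y : Type u} [CommRing Y] {R : Type v} [CommRing R]

theorem evalAt_map {R' : Type v} [CommRing R'] (θ : Y →+* R) (τ : R →+* R') (u : Rˣ) (g : Lau Y) :
    τ (evalAt θ u g) = evalAt (τ.comp θ) (Units.map τ.toMonoidHom u) g := by
  rw [evalAt_eq_sum, evalAt_eq_sum, map_sum]
  refine Finset.sum_congr rfl fun r _ => ?_
  rw [map_mul, ← map_zpow (Units.map τ.toMonoidHom) u r]
  rfl

theorem evalAt_mapRingHom {Y' : Type u} [CommRing Y'] (θ : Y' →+* R) (ψ : Y →+* Y') (u : Rˣ) (g : Lau Y) :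
    evalAt θ u (AddMonoidAlgebra.mapRingHom ℤ ψ g) = evalAt (θ.comp ψ) u g := by
  conv_lhs => rw [← AddMonoidAlgebra.sum_coeff_single g, Finsupp.sum, map_sum, map_sum]
  rw [evalAt_eq_sum]
  refine Finset.sum_congr rfl fun r _ => ?_
  rw [show AddMonoidAlgebra.mapRingHom ℤ ψ (single r (g.coeff r)) = single r (ψ (g.coeff r)) by
    refine AddMonoidAlgebra.ext (Finsupp.ext fun m => ?_)
    rw [AddMonoidAlgebra.coeff_mapRingHom, AddMonoidAlgebra.coeff_single, AddMonoidAlgebra.coeff_single,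
      Finsupp.single_apply, Finsupp.single_apply]
    split <;> simp, evalAt_single]
  rfl

/-- The tautological unit. -/
def T1 (Y : Type u) [CommRing Y] : (Lau Y)ˣ :=
  Units.map (AddMonoidAlgebra.of Y ℤ) (toUnits (Multiplicative.ofAdd (1 : ℤ)))

theorem T1_zpow (r : ℤ) : ((T1 Y ^ r : (Lau Y)ˣ) : Lau Y) = single r 1 := by
  rw [T1, ← map_zpow, ← map_zpow, ← ofAdd_zsmul, smul_eq_mul, mul_one]
  rfl

theorem evalAt_T1 (g : Lau Y) : evalAt AddMonoidAlgebra.singleZeroRingHom (T1 Y) g = g := by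
  rw [evalAt_eq_sum]
  conv_rhs => rw [← AddMonoidAlgebra.sum_coeff_single g, Finsupp.sum]
  refine Finset.sum_congr rfl fun r _ => ?_
  rw [T1_zpow]
  exact (AddMonoidAlgebra.single_mul_single _ _ _ _).trans (by rw [zero_add, mul_one])

theorem evalAt_T1_map {R' : Type u} [CommRing R'] (τ : Lau Y →+* R') (g : Lau Y) :
    evalAt (τ.comp AddMonoidAlgebra.singleZeroRingHom) (Units.map τ.toMonoidHom (T1 Y)) g = τ g := by
  rw [← evalAt_map, evalAt_T1]

theorem IsGL.map {Y' : Type u} [CommRing Y'] {g : Lau Y} (hg : IsGL g) (ψ : Y →+* Y') :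
    IsGL (AddMonoidAlgebra.mapRingHom ℤ ψ g) := by
  classical
  refine ⟨fun r s hrs => ?_, ?_⟩
  · rw [AddMonoidAlgebra.coeff_mapRingHom, AddMonoidAlgebra.coeff_mapRingHom, ← map_mul, hg.orth r s hrs, map_zero]
  · have h : (AddMonoidAlgebra.mapRingHom ℤ ψ g).coeff.support ⊆ g.coeff.support := fun r hr => by
      rw [Finsupp.mem_support_iff, AddMonoidAlgebra.coeff_mapRingHom] at hr
      exact Finsupp.mem_support_iff.2 fun h => hr (by rw [h, map_zero])
    rw [Finset.sum_subset h fun r _ hr => Finsupp.notMem_support_iff.1 hr]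
    simp [← map_sum, hg.sum]

theorem IsGL.deg_map {Y' : Type u} [CommRing Y'] {g : Lau Y} (hg : IsGL g) (ψ : Y →+* Y') (y : PrimeSpectrum Y') :
    deg (AddMonoidAlgebra.mapRingHom ℤ ψ g) y = deg g (PrimeSpectrum.comap ψ y) := by
  rw [(hg.map ψ).deg_eq_iff, AddMonoidAlgebra.coeff_mapRingHom]
  exact (hg.deg_eq_iff (PrimeSpectrum.comap ψ y) _).1 rfl

theorem IsGL.deg_mul {g g' : Lau Y} (hg : IsGL g) (hg' : IsGL g') (hgg : IsGL (g * g')) (y : PrimeSpectrum Y) :
    deg (g * g') y = deg g y + deg g' y := by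
  classical
  let θ := Ideal.Quotient.mk y.asIdeal
  have h0 : ∀ a, θ a = 0 ↔ a ∈ y.asIdeal := fun a => Ideal.Quotient.eq_zero_iff_mem
  have key : ∀ {f : Lau Y}, IsGL f → ∀ r, θ (f.coeff r) = if r = deg f y then 1 else 0 := by
    intro f hf r
    split_ifs with h
    · have := congrArg θ hf.sum
      rw [map_sum, map_one, Finset.sum_eq_single r (fun s _ hs => (h0 _).2 (by_contra fun h' =>
        hs (((hf.deg_eq_iff y s).2 h').symm.trans h.symm)))
        (fun hr => by rw [Finsupp.notMem_support_iff.1 hr, map_zero])] at this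
      exact this
    · exact (h0 _).2 (by_contra fun h' => h ((hf.deg_eq_iff y r).2 h').symm)
  have hs : ∀ {f : Lau Y}, IsGL f → AddMonoidAlgebra.mapRingHom ℤ θ f = single (deg f y) 1 := fun {f} hf => by
    refine AddMonoidAlgebra.ext (Finsupp.ext fun r => ?_)
    rw [AddMonoidAlgebra.coeff_mapRingHom, key hf, AddMonoidAlgebra.coeff_single, Finsupp.single_apply]
    exact if_congr eq_comm rfl rfl
  refine (hgg.deg_eq_iff y _).2 fun h => ?_
  have := congrArg (fun f : Lau (Y ⧸ y.asIdeal) => f.coeff (deg g y + deg g' y))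
    ((map_mul (AddMonoidAlgebra.mapRingHom ℤ θ) g g').trans (by rw [hs hg, hs hg', AddMonoidAlgebra.single_mul_single]))
  simp only [AddMonoidAlgebra.coeff_mapRingHom, (h0 _).2 h, AddMonoidAlgebra.coeff_single, Finsupp.single_eq_same,
    mul_one] at this
  exact zero_ne_one this

end Lau

theorem sections_ext {X : Scheme.{u}} {a b : Γ(X, ⊤)}
    (h : ∀ {W : Scheme.{u}} [IsAffine W] (g : W ⟶ X), g.appTop a = g.appTop b) : a = b := by
  refine TopCat.Sheaf.eq_of_locally_eq' X.sheaf (fun V : X.affineOpens => V.1) ⊤ (fun V => homOfLE le_top)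
    ?_ a b fun V => ?_
  · rw [iSup_affineOpens_eq_top X]
  · have : IsAffine V.1.toScheme := V.2
    have h1 := h (W := V.1.toScheme) V.1.ι
    have hinj : Function.Injective V.1.topIso.inv := (ConcreteCategory.bijective_of_isIso V.1.topIso.inv).1
    have h2 : ∀ x, V.1.ι.appTop x = V.1.topIso.inv (X.presheaf.map (homOfLE le_top).op x) := fun x => by
      show _ = (X.presheaf.map (homOfLE le_top).op ≫ V.1.topIso.inv) x
      congr 2
      simp [Scheme.Opens.topIso, Scheme.Hom.appTop]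
      rw [← X.presheaf.map_comp]
      rfl
    rw [h2, h2] at h1
    exact hinj h1

variable {A₀ : Type u} [CommRing A₀] {B : Type u} [CommRing B] [Algebra A₀ B]
variable {Y : Type u} [CommRing Y] [Algebra A₀ Y] {n : ℕ} (s : Spl A₀ B Y n)

/-- The inclusion of constants. -/
abbrev constL (Y : Type u) [CommRing Y] [Algebra A₀ Y] : Y →ₐ[A₀] Lau Y := IsScalarTower.toAlgHom A₀ Y (Lau Y)

/-- The projection of the torus. -/
abbrev zL : sp (K := A₀) (Lau Y) ⟶ sp Y := spMap (constL Y)

/-- The unit equal to `u` on one sheet and to `1` on the others. -/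
def sheetUnit {Z : Over (base A₀)} (z : Z ⟶ sp (K := A₀) Y) (i : Fin n) (u : (Γ(Z.left, ⊤))ˣ) :
    (Γ((pb B Z).left, ⊤))ˣ :=
  Units.map ((comb s z).toMonoidHom.comp (MonoidHom.mulSingle (fun _ => Γ(Z.left, ⊤)) i)) u

theorem coe_sheetUnit {Z : Over (base A₀)} (z : Z ⟶ sp (K := A₀) Y) (i : Fin n) (u : (Γ(Z.left, ⊤))ˣ) :
    (sheetUnit s z i u : Γ((pb B Z).left, ⊤)) = comb s z (Pi.mulSingle i (u : Γ(Z.left, ⊤))) := rfl

theorem sheetUnit_mul {Z : Over (base A₀)} (z : Z ⟶ sp (K := A₀) Y) (i : Fin n) (u v : (Γ(Z.left, ⊤))ˣ) :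
    sheetUnit s z i (u * v) = sheetUnit s z i u * sheetUnit s z i v :=
  map_mul _ u v

theorem sheetUnit_one {Z : Over (base A₀)} (z : Z ⟶ sp (K := A₀) Y) (i : Fin n) :
    sheetUnit s z i 1 = 1 :=
  map_one _

theorem sheetUnit_map {Z Z' : Over (base A₀)} (g : Z' ⟶ Z) (z : Z ⟶ sp (K := A₀) Y) (i : Fin n)
    (u : (Γ(Z.left, ⊤))ˣ) :
    Units.map ((Over.pullback (fB A₀ B)).map g).left.appTop.hom.toMonoidHom (sheetUnit s z i u) =
      sheetUnit s (g ≫ z) i (Units.map g.left.appTop.hom.toMonoidHom u) := by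
  refine Units.ext ?_
  rw [coe_sheetUnit]
  refine (comb_map s g z _).trans (congrArg (comb s (g ≫ z)) (funext fun j => ?_))
  exact Pi.apply_mulSingle (fun _ => g.left.appTop) (fun _ => map_one g.left.appTop.hom) i _ j

theorem comps_sheetUnit {Z : Over (base A₀)} (z : Z ⟶ sp (K := A₀) Y) (i j : Fin n) (u : (Γ(Z.left, ⊤))ˣ) :
    Units.map (comps s z j).toMonoidHom (sheetUnit s z i u) = if j = i then u else 1 := by
  refine Units.ext ((comps_comb s z j (Pi.mulSingle i (u : Γ(Z.left, ⊤)))).trans ?_)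
  split_ifs with h
  · subst h; exact Pi.mulSingle_eq_same j _
  · exact Pi.mulSingle_eq_of_ne h _

/-- The test unit of a sheet. -/
def testUnit (i : Fin n) : (Γ((pb B (sp (K := A₀) (Lau Y))).left, ⊤))ˣ :=
  sheetUnit s (zL (Y := Y)) i (Units.map (toSec (K := A₀) (Lau Y)).toRingHom.toMonoidHom (T1 Y))

/-- The exponents of a section. -/
def expo (φ : (D A₀ B).obj.obj (op (sp (K := A₀) Y))) (i : Fin n) : Lau Y :=
  (Function.surjInv (toSec_bijective (K := A₀) (R := Lau Y)).surjective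
    (val φ (sp (K := A₀) (Lau Y)) zL (testUnit s i)))

theorem toSec_expo (φ : (D A₀ B).obj.obj (op (sp (K := A₀) Y))) (i : Fin n) :
    toSec (K := A₀) (Lau Y) (expo s φ i) = val φ (sp (K := A₀) (Lau Y)) zL (testUnit s i) :=
  Function.surjInv_eq _ _

variable {Z : Over (base A₀)}

/-- The generic formula. -/
theorem val_single (φ : (D A₀ B).obj.obj (op (sp (K := A₀) Y))) (z : Z ⟶ sp (K := A₀) Y) (i : Fin n)
    (u : (Γ(Z.left, ⊤))ˣ) :
    val φ Z z (sheetUnit s z i u) = evalAt (pt z).toRingHom u (expo s φ i) := by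
  let θ : Lau Y →ₐ[A₀] Γ(Z.left, ⊤) :=
    { toRingHom := evalAt (pt z).toRingHom u
      commutes' := fun a => by
        show evalAt (pt z).toRingHom u (single 0 (algebraMap A₀ Y a)) = _
        rw [evalAt_single, zpow_zero, Units.val_one, mul_one]
        exact (pt z).commutes a }
  let g : Z ⟶ sp (K := A₀) (Lau Y) := ofHom θ
  have hg : pt g = θ := pt_ofHom θ
  have hz : g ≫ zL = z := pt_injective (AlgHom.ext fun y => by
    rw [pt_comp_spMap, hg]
    show evalAt (pt z).toRingHom u (single 0 y) = _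
    rw [evalAt_single, zpow_zero, Units.val_one, mul_one]
    rfl)
  have hgT : Units.map g.left.appTop.hom.toMonoidHom
      (Units.map (toSec (K := A₀) (Lau Y)).toRingHom.toMonoidHom (T1 Y)) = u := by
    refine Units.ext ?_
    show pt g (T1 Y) = _
    rw [hg]
    show evalAt (pt z).toRingHom u (T1 Y) = _
    rw [show (T1 Y : Lau Y) = single 1 1 from rfl, evalAt_single, map_one, one_mul, zpow_one]
  have h := val_map φ g zL (testUnit s i)
  rw [← toSec_expo s φ i, testUnit, sheetUnit_map, hgT, hz] at h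
  exact h.trans (DFunLike.congr_fun hg _)

theorem T2_mul : T2 Y (1, 0) * T2 Y (0, 1) = T2 Y (1, 1) := by
  refine Units.ext ((AddMonoidAlgebra.single_mul_single (R := Y) (1, 0) (0, 1) 1 1).trans ?_)
  rw [one_mul]
  rfl

theorem isGL_expo (φ : (D A₀ B).obj.obj (op (sp (K := A₀) Y))) (i : Fin n) : IsGL (expo s φ i) := by
  refine isGL_of_mul ?_ ?_
  · apply (toSec_bijective (K := A₀) (R := Y)).injective
    have h := val_single s φ (𝟙 (sp (K := A₀) Y)) i 1
    rw [sheetUnit_one, val_one, pt_id, evalAt_eq_sum] at h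
    simp only [one_zpow, Units.val_one, mul_one] at h
    rw [map_one, map_sum]
    exact h.symm
  · let t := toSec (K := A₀) (AddMonoidAlgebra Y (ℤ × ℤ))
    let zc := spMap (K := A₀) (IsScalarTower.toAlgHom A₀ Y (AddMonoidAlgebra Y (ℤ × ℤ)))
    apply (toSec_bijective (K := A₀) (R := AddMonoidAlgebra Y (ℤ × ℤ))).injective
    have h : ∀ m, t (evalAt AddMonoidAlgebra.singleZeroRingHom (T2 Y m) (expo s φ i)) =
        val φ _ zc (sheetUnit s zc i (Units.map t.toRingHom.toMonoidHom (T2 Y m))) := fun m => by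
      rw [val_single]
      refine (evalAt_map _ t.toRingHom _ _).trans ?_
      rw [pt_spMap]
      rfl
    rw [map_mul, h, h, h, ← val_mul, ← sheetUnit_mul, ← map_mul, T2_mul]

variable (G : Fin n → Lau Y)

/-- The value of the section with given exponents. -/
def valOf (z : Z ⟶ sp (K := A₀) Y) (t : (Γ((pb B Z).left, ⊤))ˣ) : Γ(Z.left, ⊤) :=
  ∏ i, evalAt (pt z).toRingHom (Units.map (comps s z i).toMonoidHom t) (G i)

theorem exists_mkD (hG : ∀ i, IsGL (G i)) :
    ∃ φ : (D A₀ B).obj.obj (op (sp (K := A₀) Y)), ∀ (Z : Over (base A₀)) z t, val φ Z z t = valOf s G z t := by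
  refine exists_of_val (fun Z z t => valOf s G z t) (fun Z z t => ?_) (fun Z z t t' => ?_) fun {Z Z'} g z t => ?_
  · exact IsUnit.prod_iff.2 fun i _ => (hG i).isUnit_eval _ _
  · simp only [valOf, map_mul, (hG _).eval_mul, Finset.prod_mul_distrib]
  · simp only [valOf, map_prod]
    refine Finset.prod_congr rfl fun i _ => ?_
    refine Eq.trans ?_ (evalAt_map (pt z).toRingHom g.left.appTop.hom _ _).symm
    rw [pt_comp]
    congr 1
    exact congrArg (evalAt _) (Units.ext (comps_map s g z i _))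

/-- The section with given exponents. -/
def mkD (hG : ∀ i, IsGL (G i)) : (D A₀ B).obj.obj (op (sp (K := A₀) Y)) := (exists_mkD s G hG).choose

theorem val_mkD (hG : ∀ i, IsGL (G i)) (z : Z ⟶ sp (K := A₀) Y) (t : (Γ((pb B Z).left, ⊤))ˣ) :
    val (mkD s G hG) Z z t = valOf s G z t :=
  (exists_mkD s G hG).choose_spec Z z t

theorem valOf_sheetUnit (hG : ∀ i, IsGL (G i)) (z : Z ⟶ sp (K := A₀) Y) (i : Fin n) (u : (Γ(Z.left, ⊤))ˣ) :
    valOf s G z (sheetUnit s z i u) = evalAt (pt z).toRingHom u (G i) := by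
  rw [valOf, Finset.prod_eq_single i]
  · rw [comps_sheetUnit, if_pos rfl]
  · intro j _ hj
    rw [comps_sheetUnit, if_neg hj, (hG j).eval_one]
  · simp

theorem expo_mkD (hG : ∀ i, IsGL (G i)) (i : Fin n) : expo s (mkD s G hG) i = G i := by
  apply (toSec_bijective (K := A₀) (R := Lau Y)).injective
  refine (toSec_expo s _ i).trans ((val_mkD s G hG _ _).trans ((valOf_sheetUnit s G hG (zL (Y := Y)) i _).trans ?_))
  have hc : (pt (zL (A₀ := A₀) (Y := Y))).toRingHom =
      (toSec (K := A₀) (Lau Y)).toRingHom.comp AddMonoidAlgebra.singleZeroRingHom := by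
    rw [pt_spMap]
    exact RingHom.ext fun y => congrArg (toSec (K := A₀) (Lau Y)) rfl
  rw [hc]
  exact evalAt_T1_map (toSec (K := A₀) (Lau Y)).toRingHom (G i)

/-- A section is determined by its exponents. -/
theorem val_eq (φ : (D A₀ B).obj.obj (op (sp (K := A₀) Y))) (z : Z ⟶ sp (K := A₀) Y)
    (t : (Γ((pb B Z).left, ⊤))ˣ) : val φ Z z t = valOf s (expo s φ) z t := by
  classical
  have haff : ∀ (Z : Over (base A₀)) [IsAffine Z.left] (z : Z ⟶ sp (K := A₀) Y) (t : (Γ((pb B Z).left, ⊤))ˣ),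
      val φ Z z t = valOf s (expo s φ) z t := by
    intro Z _ z t
    let u : Fin n → (Γ(Z.left, ⊤))ˣ := fun j => Units.map (comps s z j).toMonoidHom t
    have ht : t = ∏ i, sheetUnit s z i (u i) := by
      refine Units.ext (Eq.trans ?_ (map_prod (Units.coeHom Γ((pb B Z).left, ⊤)) _ _).symm)
      simp only [Units.coeHom_apply, coe_sheetUnit]
      rw [← map_prod, Finset.univ_prod_mulSingle]
      exact (comb_comps s z t).symm
    let F : (Γ((pb B Z).left, ⊤))ˣ →* Γ(Z.left, ⊤) :=
      { toFun := fun t => val φ Z z t, map_one' := val_one φ Z z, map_mul' := val_mul φ Z z }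
    show F t = _
    conv_lhs => rw [ht]
    rw [map_prod]
    exact Finset.prod_congr rfl fun i _ => val_single s φ z i (u i)
  refine sections_ext fun {W} _ g => ?_
  let W' : Over (base A₀) := Over.mk (g ≫ Z.hom)
  let g' : W' ⟶ Z := Over.homMk g
  have : IsAffine W'.left := inferInstanceAs (IsAffine W)
  obtain ⟨φ', hφ'⟩ := exists_mkD s (expo s φ) (isGL_expo s φ)
  show g'.left.appTop _ = g'.left.appTop _
  rw [← hφ' Z z t, ← val_map φ g' z t, ← val_map φ' g' z t, hφ', haff]

theorem mkD_expo (φ : (D A₀ B).obj.obj (op (sp (K := A₀) Y))) : mkD s (expo s φ) (isGL_expo s φ) = φ :=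
  val_ext fun Z z t => by rw [val_mkD, val_eq s φ z t]

theorem expo_inj {φ ψ : (D A₀ B).obj.obj (op (sp (K := A₀) Y))} (h : ∀ i, expo s φ i = expo s ψ i) : φ = ψ :=
  val_ext fun Z z t => by rw [val_eq s φ z t, val_eq s ψ z t, funext h]

theorem expo_add (φ ψ : (D A₀ B).obj.obj (op (sp (K := A₀) Y))) (i : Fin n) :
    expo s (φ + ψ) i = expo s φ i * expo s ψ i := by
  apply (toSec_bijective (K := A₀) (R := Lau Y)).injective
  rw [map_mul, toSec_expo, toSec_expo, toSec_expo, val_add]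

theorem expo_res {Y' : Type u} [CommRing Y'] [Algebra A₀ Y'] (ψ : Y →ₐ[A₀] Y')
    (φ : (D A₀ B).obj.obj (op (sp (K := A₀) Y))) (i : Fin n) :
    expo (s.map ψ) ((D A₀ B).obj.map (spMap ψ).op φ) i = AddMonoidAlgebra.mapRingHom ℤ ψ.toRingHom (expo s φ i) := by
  have hG : ∀ j, IsGL (AddMonoidAlgebra.mapRingHom ℤ ψ.toRingHom (expo s φ j)) := fun j => (isGL_expo s φ j).map _
  have h : mkD (s.map ψ) _ hG = (D A₀ B).obj.map (spMap ψ).op φ := val_ext fun Z z t => by
    rw [val_mkD, val_res, val_eq s φ]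
    refine Finset.prod_congr rfl fun j _ => ?_
    rw [evalAt_mapRingHom, pt_comp_spMap]
    exact congrArg (fun u => evalAt _ u (expo s φ j)) (Units.ext (comps_spMap s ψ z j _))
  rw [← h, expo_mkD]

theorem comb_mulSingle {Z : Over (base A₀)} (z : Z ⟶ sp (K := A₀) Y) (j : Fin n) (a : Γ(Z.left, ⊤)) :
    comb s z (Pi.mulSingle j a) = 1 + (fstΓ B Z a - 1) * theta z (s.ε j) := by
  rw [← add_sub_cancel (1 : Γ((pb B Z).left, ⊤)) (comb s z (Pi.mulSingle j a)), ← map_one (comb s z), ← map_sub]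
  congr 1
  rw [comb_apply, Finset.sum_eq_single j]
  · simp
  · intro l _ hl
    simp [hl]
  · simp

/-- The exponent of a sheet only depends on its idempotent. -/
theorem expo_congr {n' : ℕ} (s' : Spl A₀ B Y n') {i : Fin n} {i' : Fin n'} (h : s.ε i = s'.ε i')
    (φ : (D A₀ B).obj.obj (op (sp (K := A₀) Y))) : expo s φ i = expo s' φ i' := by
  classical
  apply (toSec_bijective (K := A₀) (R := Lau Y)).injective
  rw [toSec_expo, toSec_expo]
  congr 1
  refine Units.ext ?_
  have key : ∀ {m : ℕ} (r : Spl A₀ B Y m) (j : Fin m), (testUnit r j : Γ((pb B (sp (K := A₀) (Lau Y))).left, ⊤)) =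
      1 + (fstΓ B _ (toSec (K := A₀) (Lau Y) (T1 Y)) - 1) * theta (zL (Y := Y)) (r.ε j) :=
    fun {m} r j => comb_mulSingle r zL j _
  rw [key, key, h]

end Groth.Agent.DualTor32
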