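import Groth.Agent.DualTor32.Exp

/-!
Sections of the dual sheaf over an algebra splitting the cover, as locally constant integer functions on
the spectrum of the base change of the cover; this does not depend on the splitting.
-/

set_option autoImplicit false
set_option backward.isDefEq.respectTransparency false
universe u

open CategoryTheory CategoryTheory.Limits AlgebraicGeometry Opposite TensorProduct

noncomputable section

namespace Groth.Agent.DualTor32

variable {A₀ : Type u} [CommRing A₀] {B : Type u} [CommRing B] [Algebra A₀ B]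
variable {Y : Type u} [CommRing Y] [Algebra A₀ Y] {n : ℕ} (s : Spl A₀ B Y n)

/-- The projection of the spectrum of the base change. -/
abbrev proj (P : PrimeSpectrum (Y ⊗[A₀] B)) : PrimeSpectrum Y :=
  PrimeSpectrum.comap (Algebra.TensorProduct.includeLeftRingHom : Y →+* Y ⊗[A₀] B) P

theorem algebraMap_smul_eq (y : Y) (x : Y ⊗[A₀] B) :
    y • x = (Algebra.TensorProduct.includeLeftRingHom : Y →+* Y ⊗[A₀] B) y * x :=
  Algebra.smul_def y x

theorem Spl.mul_ε (x : Y ⊗[A₀] B) (i : Fin n) : x * s.ε i = s.ev i x • s.ε i := by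
  conv_lhs => rw [s.eq_sum x]
  rw [Finset.sum_mul, Finset.sum_eq_single i]
  · rw [smul_mul_assoc, s.orth, if_pos rfl]
  · intro j _ hj
    rw [smul_mul_assoc, s.orth, if_neg hj, smul_zero]
  · simp

theorem Spl.exists_unique_ε (P : PrimeSpectrum (Y ⊗[A₀] B)) : ∃! i, s.ε i ∉ P.asIdeal := by
  obtain ⟨i, hi⟩ : ∃ i, s.ε i ∉ P.asIdeal := by
    by_contra! h
    exact P.isPrime.ne_top ((Ideal.eq_top_iff_one _).2 (s.sum ▸ sum_mem fun i _ => h i))
  refine ⟨i, hi, fun j hj => by_contra fun hji => ?_⟩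
  exact (P.isPrime.mem_or_mem (show s.ε j * s.ε i ∈ P.asIdeal by rw [s.orth, if_neg hji]; exact zero_mem _)).elim hj hi

/-- The sheet of a point. -/
def Spl.idx (P : PrimeSpectrum (Y ⊗[A₀] B)) : Fin n := (s.exists_unique_ε P).choose

theorem Spl.idx_spec (P : PrimeSpectrum (Y ⊗[A₀] B)) : s.ε (s.idx P) ∉ P.asIdeal :=
  (s.exists_unique_ε P).choose_spec.1

theorem Spl.idx_eq (P : PrimeSpectrum (Y ⊗[A₀] B)) {i : Fin n} (h : s.ε i ∉ P.asIdeal) : s.idx P = i :=
  ((s.exists_unique_ε P).choose_spec.2 i h).symm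

/-- The point of a sheet over a point. -/
abbrev Spl.lift (i : Fin n) (y : PrimeSpectrum Y) : PrimeSpectrum (Y ⊗[A₀] B) :=
  PrimeSpectrum.comap (s.ev i).toRingHom y

theorem Spl.idx_lift (i : Fin n) (y : PrimeSpectrum Y) : s.idx (s.lift i y) = i := by
  refine s.idx_eq _ fun h => ?_
  have h' : s.ev i (s.ε i) ∈ y.asIdeal := h
  rw [show s.ev i (s.ε i) = _ from s.delta i i, if_pos rfl] at h'
  exact y.isPrime.ne_top ((Ideal.eq_top_iff_one _).2 h')

theorem Spl.proj_lift (i : Fin n) (y : PrimeSpectrum Y) : proj (s.lift i y) = y := by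
  refine PrimeSpectrum.ext (Ideal.ext fun a => ?_)
  show s.ev i (a ⊗ₜ[A₀] (1 : B)) ∈ y.asIdeal ↔ _
  simp

theorem Spl.lift_idx (P : PrimeSpectrum (Y ⊗[A₀] B)) : s.lift (s.idx P) (proj P) = P := by
  refine PrimeSpectrum.ext (Ideal.ext fun x => ?_)
  show (Algebra.TensorProduct.includeLeftRingHom : Y →+* Y ⊗[A₀] B) (s.ev (s.idx P) x) ∈ P.asIdeal ↔ _
  have h := s.mul_ε x (s.idx P)
  rw [algebraMap_smul_eq] at h
  constructor
  · intro hx
    exact (P.isPrime.mem_or_mem (h ▸ P.asIdeal.mul_mem_right _ hx)).resolve_right (s.idx_spec P)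
  · intro hx
    exact (P.isPrime.mem_or_mem (h ▸ P.asIdeal.mul_mem_right _ hx)).resolve_right (s.idx_spec P)

/-- The function of a section. -/
def fn (φ : (D A₀ B).obj.obj (op (sp (K := A₀) Y))) (P : PrimeSpectrum (Y ⊗[A₀] B)) : ℤ :=
  deg (expo s φ (s.idx P)) (proj P)

theorem fn_lift (φ : (D A₀ B).obj.obj (op (sp (K := A₀) Y))) (i : Fin n) (y : PrimeSpectrum Y) :
    fn s φ (s.lift i y) = deg (expo s φ i) y := by
  rw [fn, s.idx_lift, s.proj_lift]

theorem isLocallyConstant_fn (φ : (D A₀ B).obj.obj (op (sp (K := A₀) Y))) : IsLocallyConstant (fn s φ) := by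
  refine (IsLocallyConstant.iff_exists_open _).2 fun P => ?_
  let i := s.idx P
  obtain ⟨U, hU, hPU, hc⟩ := (IsLocallyConstant.iff_exists_open _).1 (isGL_expo s φ i).isLocallyConstant_deg (proj P)
  refine ⟨(PrimeSpectrum.basicOpen (s.ε i) : Set _) ∩ proj ⁻¹' U, ?_, ⟨s.idx_spec P, hPU⟩, fun Q hQ => ?_⟩
  · exact (PrimeSpectrum.basicOpen (s.ε i)).2.inter (hU.preimage (PrimeSpectrum.continuous_comap _))
  · show deg _ _ = deg _ _
    rw [s.idx_eq Q hQ.1]
    exact hc _ hQ.2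

theorem fn_add (φ ψ : (D A₀ B).obj.obj (op (sp (K := A₀) Y))) (P : PrimeSpectrum (Y ⊗[A₀] B)) :
    fn s (φ + ψ) P = fn s φ P + fn s ψ P := by
  unfold fn
  rw [expo_add]
  exact (isGL_expo s φ _).deg_mul (isGL_expo s ψ _) (expo_add s φ ψ _ ▸ isGL_expo s (φ + ψ) _) _

theorem fn_inj {φ ψ : (D A₀ B).obj.obj (op (sp (K := A₀) Y))} (h : fn s φ = fn s ψ) : φ = ψ :=
  expo_inj s fun i => (isGL_expo s φ i).ext (isGL_expo s ψ i) (funext fun y => by rw [← fn_lift, ← fn_lift, h])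

theorem exists_fn {M : PrimeSpectrum (Y ⊗[A₀] B) → ℤ} (hM : IsLocallyConstant M) :
    ∃ φ : (D A₀ B).obj.obj (op (sp (K := A₀) Y)), fn s φ = M := by
  choose G hG hd using fun i => exists_isGL (hM.comp_continuous (PrimeSpectrum.continuous_comap (s.ev i).toRingHom))
  refine ⟨mkD s G hG, funext fun P => ?_⟩
  unfold fn
  rw [expo_mkD, hd]
  exact congrArg M (s.lift_idx P)

theorem proj_map {Y' : Type u} [CommRing Y'] [Algebra A₀ Y'] (ψ : Y →ₐ[A₀] Y')
    (P : PrimeSpectrum (Y' ⊗[A₀] B)) :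
    proj (PrimeSpectrum.comap (Algebra.TensorProduct.map ψ (AlgHom.id A₀ B)).toRingHom P) =
      PrimeSpectrum.comap ψ.toRingHom (proj P) := by
  refine PrimeSpectrum.ext (Ideal.ext fun a => ?_)
  show Algebra.TensorProduct.map ψ (AlgHom.id A₀ B) (a ⊗ₜ 1) ∈ P.asIdeal ↔ _
  rw [Algebra.TensorProduct.map_tmul, map_one]
  rfl

theorem fn_res {Y' : Type u} [CommRing Y'] [Algebra A₀ Y'] (ψ : Y →ₐ[A₀] Y')
    (φ : (D A₀ B).obj.obj (op (sp (K := A₀) Y))) (P : PrimeSpectrum (Y' ⊗[A₀] B)) :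
    fn (s.map ψ) ((D A₀ B).obj.map (spMap ψ).op φ) P =
      fn s φ (PrimeSpectrum.comap (Algebra.TensorProduct.map ψ (AlgHom.id A₀ B)).toRingHom P) := by
  unfold fn
  have h : s.idx (PrimeSpectrum.comap (Algebra.TensorProduct.map ψ (AlgHom.id A₀ B)).toRingHom P) =
      (s.map ψ).idx P :=
    s.idx_eq _ ((s.map ψ).idx_spec P)
  rw [h, proj_map, expo_res, (isGL_expo s φ _).deg_map]

/-- The function of a section does not depend on the splitting. -/
theorem fn_congr {n' : ℕ} (s' : Spl A₀ B Y n') (φ : (D A₀ B).obj.obj (op (sp (K := A₀) Y)))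
    (P : PrimeSpectrum (Y ⊗[A₀] B)) : fn s φ P = fn s' φ P := by
  let i := s.idx P
  let i' := s'.idx P
  let y := proj P
  let k := FractionRing (Y ⧸ y.asIdeal)
  let ψ : Y →ₐ[A₀] k := (IsScalarTower.toAlgHom A₀ (Y ⧸ y.asIdeal) k).comp (Ideal.Quotient.mkₐ A₀ y.asIdeal)
  have hk : ∀ a, ψ a = 0 ↔ a ∈ y.asIdeal := fun a => by
    show algebraMap _ k (Ideal.Quotient.mk y.asIdeal a) = 0 ↔ _
    rw [IsFractionRing.to_map_eq_zero_iff, Ideal.Quotient.eq_zero_iff_mem]
  let m := Algebra.TensorProduct.map ψ (AlgHom.id A₀ B)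
  have hm : ∀ (a : Y) (x : Y ⊗[A₀] B), m (a • x) = ψ a • m x := fun a x => by
    rw [algebraMap_smul_eq, algebraMap_smul_eq, map_mul]
    congr 1
  have key : ∀ {l l' : ℕ} (r : Spl A₀ B Y l) (r' : Spl A₀ B Y l') (j : Fin l) (j' : Fin l'),
      r.ε j ∉ P.asIdeal → r'.ε j' ∉ P.asIdeal → m (r.ε j * r'.ε j') = m (r.ε j) := by
    intro l l' r r' j j' h h'
    have hmul := r.mul_ε (r'.ε j') j
    have hy : r.ev j (r'.ε j') ∉ y.asIdeal := fun hmem => by
      have : r'.ε j' * r.ε j ∈ P.asIdeal := by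
        rw [hmul, algebraMap_smul_eq]
        exact P.asIdeal.mul_mem_right _ hmem
      exact (P.isPrime.mem_or_mem this).elim h' h
    have he : r.ev j (r'.ε j') * r.ev j (r'.ε j') = r.ev j (r'.ε j') := by
      rw [← map_mul, r'.orth, if_pos rfl]
    have h1 : ψ (r.ev j (r'.ε j')) = 1 :=
      mul_left_cancel₀ (fun h0 => hy ((hk _).1 h0)) (by rw [← map_mul, he, mul_one])
    rw [mul_comm, hmul, hm, h1, one_smul]
  have hε : (s.map ψ).ε i = (s'.map ψ).ε i' := by
    show m (s.ε i) = m (s'.ε i')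
    rw [← key s s' i i' (s.idx_spec P) (s'.idx_spec P), mul_comm, key s' s i' i (s'.idx_spec P) (s.idx_spec P)]
  have h := expo_congr (s.map ψ) (s'.map ψ) hε ((D A₀ B).obj.map (spMap ψ).op φ)
  rw [expo_res, expo_res] at h
  let y₀ : PrimeSpectrum k := ⟨⊥, Ideal.isPrime_bot⟩
  have hy₀ : PrimeSpectrum.comap ψ.toRingHom y₀ = y := PrimeSpectrum.ext (Ideal.ext fun a => by
    show ψ a ∈ (⊥ : Ideal k) ↔ _
    rw [Ideal.mem_bot, hk])
  have h2 := congrArg (fun g => deg g y₀) h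
  simp only [(isGL_expo _ _ _).deg_map, hy₀] at h2
  exact h2

end Groth.Agent.DualTor32
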