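import Groth.Agent.Alg80.QuasiSection
import Groth.Agent.Hensel20.LocalFinite
import Mathlib.RingTheory.ZariskisMainTheorem
import Mathlib.RingTheory.Spectrum.Prime.Chevalley
import Mathlib.RingTheory.Flat.Basic

/-!
Over a henselian local ring, a flat quasi-finite algebra of finite presentation with a point on the
closed fibre has a point in a finite free algebra, of rank bounded by the number of generators of a
finite subalgebra given by Zariski's main theorem.
-/

set_option autoImplicit false
universe u

open TensorProduct IsLocalRing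

noncomputable section

namespace Groth.Agent.DualTor32

variable {A : Type u} [CommRing A]

/-- A point of a finite product lies on one factor. -/
theorem exists_factor {O S κ : Type u} [CommRing O] [CommRing S] [Algebra O S] [Field κ] {ι : Type u} [Fintype ι]
    {L : ι → Type u} [∀ i, CommRing (L i)] [∀ i, Algebra O (L i)] (Φ : S ≃ₐ[O] ∀ i, L i) (τ : S →+* κ) :
    ∃ (j : ι) (pj : S →ₐ[O] L j) (sj : L j →ₗ[O] S) (τj : L j →+* κ),
      (∀ x, pj (sj x) = x) ∧ ∀ x, τj (pj x) = τ x := by
  classical
  let τ' : (∀ i, L i) →+* κ := τ.comp Φ.symm.toAlgHom.toRingHom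
  have hone : ∑ i, τ' (Pi.single i 1) = 1 := by
    rw [← map_sum, show ∑ i, Pi.single i (1 : L i) = (1 : ∀ i, L i) from
      Finset.univ_sum_single (1 : ∀ i, L i), map_one]
  obtain ⟨j, hj⟩ : ∃ j, τ' (Pi.single j 1) ≠ 0 := by
    by_contra! h
    rw [Finset.sum_eq_zero fun i _ => h i] at hone
    exact zero_ne_one hone
  have hj1 : τ' (Pi.single j 1) = 1 := mul_left_cancel₀ hj (by rw [← map_mul, ← Pi.single_mul, mul_one, mul_one])
  let τj : L j →+* κ :=
    { toFun := fun x => τ' (Pi.single j x)
      map_one' := hj1
      map_mul' := fun x y => by rw [Pi.single_mul, map_mul]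
      map_zero' := by rw [Pi.single_zero, map_zero]
      map_add' := fun x y => by rw [Pi.single_add, map_add] }
  refine ⟨j, (Pi.evalAlgHom O L j).comp Φ.toAlgHom, Φ.symm.toLinearMap.comp (LinearMap.single O L j), τj,
    fun x => ?_, fun x => ?_⟩
  · show Φ (Φ.symm (Pi.single j x)) j = x
    rw [AlgEquiv.apply_symm_apply, Pi.single_eq_same]
  · show τ' (Pi.single j (Φ x j)) = _
    have h : Φ x * Pi.single j 1 = Pi.single j (Φ x j) := by
      funext k
      by_cases hk : k = j
      · subst hk; simp
      · simp [hk]
    rw [← h, map_mul, hj1, mul_one]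
    show τ (Φ.symm (Φ x)) = _
    rw [AlgEquiv.symm_apply_apply]

/-- The local step. -/
theorem exists_local_point {B : Type u} [CommRing B] [Algebra A B] [Module.Flat A B]
    (B' : Subalgebra A B) [Module.Finite A B'] {N : ℕ} (gen : Fin N → B')
    (hgen : Submodule.span A (Set.range gen) = ⊤) (r : B')
    (hr : Function.Bijective (Localization.awayMap B'.val.toRingHom r))
    (O : Type u) [CommRing O] [HenselianLocalRing O] [Algebra A O]
    (hO : Function.Surjective (algebraMap A (ResidueField O)))
    (q₀ : PrimeSpectrum B) (hq₀ : (r : B) ∉ q₀.asIdeal)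
    (hp : PrimeSpectrum.comap (algebraMap A B) q₀ = PrimeSpectrum.comap (algebraMap A (ResidueField O)) (closedPoint _)) :
    ∃ (L : Type u) (_ : CommRing L) (_ : Algebra O L) (_ : Algebra A L) (_ : IsScalarTower A O L)
      (_ : Nontrivial L) (_ : Module.Flat O L) (_ : B →ₐ[A] L) (g : Fin N → L),
        Submodule.span O (Set.range g) = ⊤ := by
  classical
  let κ := q₀.asIdeal.ResidueField
  let π : A →+* ResidueField O := algebraMap A (ResidueField O)
  have hker : RingHom.ker π ≤ RingHom.ker (algebraMap A κ) := fun a ha => by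
    have h1 : algebraMap A B a ∈ q₀.asIdeal := by
      show a ∈ (PrimeSpectrum.comap (algebraMap A B) q₀).asIdeal
      rw [hp]
      show π a ∈ maximalIdeal _
      rw [RingHom.mem_ker.1 ha]
      exact zero_mem _
    rw [RingHom.mem_ker, IsScalarTower.algebraMap_apply A B κ]
    exact Ideal.algebraMap_residueField_eq_zero.2 h1
  let ψ := π.liftOfSurjective hO ⟨_, hker⟩
  let τO : O →ₐ[A] κ :=
    { toRingHom := ψ.comp (residue O)
      commutes' := fun a => π.liftOfRightInverse_comp_apply _ (Function.rightInverse_surjInv hO) ⟨_, hker⟩ a }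
  let S := O ⊗[A] B'
  let τ : S →ₐ[A] κ := Algebra.TensorProduct.lift τO ((IsScalarTower.toAlgHom A B κ).comp B'.val)
    fun _ _ => Commute.all _ _
  have hτr : τ (1 ⊗ₜ r) ≠ 0 := by
    rw [Algebra.TensorProduct.lift_tmul, map_one, one_mul]
    exact fun h => hq₀ (Ideal.algebraMap_residueField_eq_zero.1 h)
  obtain ⟨ι, hι, e, hloc, ⟨Φ⟩⟩ := Hensel20.exists_algEquiv_pi_local (R := O) S
  obtain ⟨j, pj, sj, τj, hsj, hτj⟩ := exists_factor Φ τ.toRingHom
  let Lj := S ⧸ Ideal.span {1 - e j}
  have : IsLocalRing Lj := hloc j
  have hu : IsUnit (pj (1 ⊗ₜ r)) := by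
    by_contra hn
    let P := RingHom.ker τj
    have hP : P.IsPrime := RingHom.ker_isPrime τj
    have hPc : (P.comap (algebraMap O Lj)).IsMaximal := by
      have hle : maximalIdeal O ≤ P.comap (algebraMap O Lj) := fun o ho => by
        show τj (algebraMap O Lj o) = 0
        rw [← pj.commutes o, hτj]
        show τ (o ⊗ₜ (1 : B')) = 0
        rw [Algebra.TensorProduct.lift_tmul, map_one, mul_one]
        show ψ (residue O o) = 0
        rw [(residue_eq_zero_iff o).2 ho, map_zero]
      rw [← (maximalIdeal.isMaximal O).eq_of_le (Ideal.IsPrime.comap (algebraMap O Lj)).ne_top hle]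
      exact maximalIdeal.isMaximal O
    have hPm : P = maximalIdeal Lj := IsLocalRing.eq_maximalIdeal
      (Ideal.isMaximal_of_isIntegral_of_isMaximal_comap (R := O) P hPc)
    have h1 : pj (1 ⊗ₜ r) ∈ P := by
      rw [hPm]
      exact (IsLocalRing.mem_maximalIdeal _).2 hn
    exact hτr ((hτj _).symm.trans h1)
  have : IsScalarTower A O Lj := inferInstance
  let χ : B' →+* Lj := pj.toRingHom.comp
    (Algebra.TensorProduct.includeRight : B' →ₐ[A] S).toRingHom
  let Eq := RingEquiv.ofBijective (Localization.awayMap B'.val.toRingHom r) hr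
  let θ₀ : B →+* Lj := ((IsLocalization.Away.lift (S := Localization.Away r) (P := Lj) r (g := χ) hu).comp Eq.symm.toRingHom).comp
    (algebraMap B (Localization.Away (B'.val.toRingHom r)))
  have hθ : ∀ x : B', θ₀ x = χ x := fun x => by
    have h : Eq (algebraMap B' (Localization.Away r) x) = algebraMap B (Localization.Away (B'.val.toRingHom r)) x := by
      show Localization.awayMap B'.val.toRingHom r (algebraMap B' (Localization.Away r) x) = _
      rw [Localization.awayMap, IsLocalization.Away.map, IsLocalization.map_eq]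
      rfl
    show IsLocalization.Away.lift r hu (Eq.symm (algebraMap B _ (x : B))) = _
    rw [← h, RingEquiv.symm_apply_apply, IsLocalization.Away.lift_eq]
    rfl
  have hθA : ∀ a : A, θ₀ (algebraMap A B a) = algebraMap O Lj (algebraMap A O a) := fun a => by
    refine (hθ (algebraMap A B' a)).trans ?_
    show pj ((Algebra.TensorProduct.includeRight : B' →ₐ[A] S) (algebraMap A B' a)) = _
    rw [AlgHom.commutes, IsScalarTower.algebraMap_apply A O S, AlgHom.commutes]
  let θ : B →ₐ[A] Lj := { toRingHom := θ₀, commutes' := fun a => (hθA a).trans (IsScalarTower.algebraMap_apply A O Lj a).symm }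
  refine ⟨Lj, inferInstance, inferInstance, inferInstance, inferInstance, inferInstance, ?_, θ,
    fun k => pj (1 ⊗ₜ gen k), ?_⟩
  · let i : Lj →ₗ[O] O ⊗[A] B :=
      (Algebra.TensorProduct.map (AlgHom.id O O) B'.val).toLinearMap.comp sj
    let ρ : O ⊗[A] B →ₐ[O] Lj := Algebra.TensorProduct.lift (Algebra.ofId O Lj) θ fun _ _ => Commute.all (S := Lj) _ _
    refine Module.Flat.of_retract i ρ.toLinearMap (LinearMap.ext fun x => ?_)
    have h : ∀ y : S, ρ (Algebra.TensorProduct.map (AlgHom.id O O) B'.val y) = pj y := by
      intro y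
      induction y using TensorProduct.induction_on with
      | zero => simp
      | add u v hu hv => rw [map_add, map_add, map_add, hu, hv]
      | tmul o z =>
        rw [Algebra.TensorProduct.map_tmul, Algebra.TensorProduct.lift_tmul]
        show algebraMap O Lj o * θ₀ z = _
        rw [hθ, ← pj.commutes]
        show pj _ * pj ((1 : O) ⊗ₜ z) = _
        rw [← map_mul]
        congr 1
        show (o ⊗ₜ[A] (1 : B')) * ((1 : O) ⊗ₜ[A] z) = _
        rw [Algebra.TensorProduct.tmul_mul_tmul, mul_one, one_mul]
    show ρ (Algebra.TensorProduct.map (AlgHom.id O O) B'.val (sj x)) = x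
    rw [h, hsj]
  · have hs : Submodule.span O (Set.range fun k => (1 : O) ⊗ₜ[A] gen k) = (⊤ : Submodule O S) := by
      rw [eq_top_iff]
      rintro y -
      induction y using TensorProduct.induction_on with
      | zero => exact zero_mem _
      | add u v hu hv => exact add_mem hu hv
      | tmul o z =>
        rw [← mul_one o, ← smul_eq_mul, ← TensorProduct.smul_tmul']
        refine Submodule.smul_mem _ _ ?_
        have hz : z ∈ Submodule.span A (Set.range gen) := hgen ▸ Submodule.mem_top
        induction hz using Submodule.span_induction with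
        | mem z hz =>
          obtain ⟨k, rfl⟩ := hz
          exact Submodule.subset_span ⟨k, rfl⟩
        | zero => rw [TensorProduct.tmul_zero]; exact zero_mem _
        | add u v _ _ hu hv => rw [TensorProduct.tmul_add]; exact add_mem hu hv
        | smul a u _ hu =>
          rw [TensorProduct.tmul_smul, ← algebraMap_smul O a]
          exact Submodule.smul_mem _ _ hu
    have hsur : Function.Surjective pj.toLinearMap := fun x => ⟨sj x, hsj x⟩
    rw [eq_top_iff, ← LinearMap.range_eq_top.2 hsur, ← Submodule.map_top, ← hs, Submodule.map_span,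
      ← Set.range_comp]
    exact le_rfl

end Groth.Agent.DualTor32
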