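import Groth.Agent.DualTor32.Pts
import Groth.Agent.RedPts82.Points
import Groth.Prelude.Def_CGrpSh3
import Groth.Prelude.Def_Red2

/-!
Sections of the dual sheaf of the direct image of `𝔾_m` along an affine morphism, as natural
families of multiplicative maps on units of global functions.
-/

set_option autoImplicit false
set_option backward.isDefEq.respectTransparency false
universe u

open CategoryTheory CategoryTheory.Limits AlgebraicGeometry Opposite
open MonoidalCategory CartesianMonoidalCategory MonObj GrpObj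

noncomputable section

namespace Groth.Agent.DualTor32

variable (A₀ : Type u) [CommRing A₀] (B : Type u) [CommRing B] [Algebra A₀ B]

/-- The base. -/
abbrev base : Scheme.{u} := Spec (CommRingCat.of A₀)

/-- The finite cover of the base. -/
abbrev fB : Spec (CommRingCat.of B) ⟶ base A₀ := Spec.map (CommRingCat.ofHom (algebraMap A₀ B))

/-- The direct image of the multiplicative group. -/
abbrev R0 : BigSite.Ab Scheme.fppfPrecoverage (base A₀) := CGrpSh3.pushGm Scheme.fppfPrecoverage (fB A₀ B)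

/-- Its dual. -/
abbrev D : BigSite.Ab Scheme.fppfPrecoverage (base A₀) := CGrpSh2.dualSh Scheme.fppfPrecoverage (R0 A₀ B)

variable {A₀}

/-- Base change to the cover. -/
abbrev pb (Z : Over (base A₀)) : Over (Spec (CommRingCat.of B)) := (Over.pullback (fB A₀ B)).obj Z

variable {B}

theorem exists_unitPt {T : Scheme.{u}} {X : Over T} (t : (Γ(X.left, ⊤))ˣ) :
    ∃ p : X ⟶ Red.Gm T, Red.gmFn p = t :=
  RedPts82.gmFn_surjective t.isUnit

/-- The point of the multiplicative group attached to a unit. -/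
def unitPt {T : Scheme.{u}} {X : Over T} (t : (Γ(X.left, ⊤))ˣ) : X ⟶ Red.Gm T := (exists_unitPt t).choose

theorem gmFn_unitPt {T : Scheme.{u}} {X : Over T} (t : (Γ(X.left, ⊤))ˣ) : Red.gmFn (unitPt t) = t :=
  (exists_unitPt t).choose_spec

theorem unitPt_mul {T : Scheme.{u}} {X : Over T} (t t' : (Γ(X.left, ⊤))ˣ) :
    unitPt (t * t') = unitPt (X := X) t * unitPt t' :=
  RedPts82.gmFn_injective (by rw [RedPts82.gmFn_mul, gmFn_unitPt, gmFn_unitPt, gmFn_unitPt, Units.val_mul])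

theorem unitPt_comp {T : Scheme.{u}} {X X' : Over T} (g : X' ⟶ X) (t : (Γ(X.left, ⊤))ˣ) :
    g ≫ unitPt t = unitPt (Units.map g.left.appTop.hom.toMonoidHom t) :=
  RedPts82.gmFn_injective (by rw [RedPts82.gmFn_comp, gmFn_unitPt, gmFn_unitPt]; rfl)

theorem unitPt_gmFn {T : Scheme.{u}} {X : Over T} (p : X ⟶ Red.Gm T) :
    unitPt (RedPts82.gmFn_isUnit p).unit = p :=
  RedPts82.gmFn_injective (by rw [gmFn_unitPt]; rfl)

/-- The section of the direct image given by a unit. -/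
def unitSec {Z : Over (base A₀)} (t : (Γ((pb B Z).left, ⊤))ˣ) : (R0 A₀ B).obj.obj (op Z) :=
  ULift.up (Additive.ofMul (unitPt t))

theorem unitSec_mul {Z : Over (base A₀)} (t t' : (Γ((pb B Z).left, ⊤))ˣ) :
    unitSec (t * t') = unitSec (Z := Z) t + unitSec t' :=
  ULift.ext _ _ (congrArg Additive.ofMul (unitPt_mul t t'))

theorem unitSec_map {Z Z' : Over (base A₀)} (g : Z' ⟶ Z) (t : (Γ((pb B Z).left, ⊤))ˣ) :
    (R0 A₀ B).obj.map g.op (unitSec t) =
      unitSec (Units.map ((Over.pullback (fB A₀ B)).map g).left.appTop.hom.toMonoidHom t) :=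
  ULift.ext _ _ (congrArg Additive.ofMul (unitPt_comp ((Over.pullback (fB A₀ B)).map g) t))

theorem unitSec_surjective {Z : Over (base A₀)} (x : (R0 A₀ B).obj.obj (op Z)) :
    ∃ t, unitSec t = x :=
  ⟨_, ULift.ext _ _ (congrArg Additive.ofMul (unitPt_gmFn (Additive.toMul x.down)))⟩

variable {U : Over (base A₀)}

/-- The components of a section of the dual. -/
def appHom (φ : (D A₀ B).obj.obj (op U)) (Z : Over (base A₀)) (z : Z ⟶ U) :
    (R0 A₀ B).obj.obj (op Z) →+ (CGrpSh2.Gm Scheme.fppfPrecoverage (base A₀)).obj.obj (op Z) :=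
  ((φ : (R0 A₀ B).over U ⟶ _).hom.app (op (Over.mk z))).hom

/-- The value of a section of the dual on a unit. -/
def val (φ : (D A₀ B).obj.obj (op U)) (Z : Over (base A₀)) (z : Z ⟶ U) (t : (Γ((pb B Z).left, ⊤))ˣ) :
    Γ(Z.left, ⊤) :=
  Red.gmFn (Additive.toMul (appHom φ Z z (unitSec t)).down)

theorem val_mul (φ : (D A₀ B).obj.obj (op U)) (Z : Over (base A₀)) (z : Z ⟶ U)
    (t t' : (Γ((pb B Z).left, ⊤))ˣ) : val φ Z z (t * t') = val φ Z z t * val φ Z z t' := by
  rw [val, unitSec_mul, map_add]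
  exact RedPts82.gmFn_mul _ _

theorem val_one (φ : (D A₀ B).obj.obj (op U)) (Z : Over (base A₀)) (z : Z ⟶ U) : val φ Z z 1 = 1 := by
  have h := val_mul φ Z z 1 1
  rw [_root_.mul_one] at h
  exact ((RedPts82.gmFn_isUnit _).mul_eq_left).1 h.symm

theorem val_map (φ : (D A₀ B).obj.obj (op U)) {Z Z' : Over (base A₀)} (g : Z' ⟶ Z) (z : Z ⟶ U)
    (t : (Γ((pb B Z).left, ⊤))ˣ) :
    val φ Z' (g ≫ z) (Units.map ((Over.pullback (fB A₀ B)).map g).left.appTop.hom.toMonoidHom t) =
      g.left.appTop (val φ Z z t) := by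
  refine Eq.trans (congrArg (fun x => Red.gmFn (Additive.toMul
    ((φ : (R0 A₀ B).over U ⟶ _).hom.app (op (Over.mk (g ≫ z))) x).down)) (unitSec_map g t).symm) ?_
  have h := ConcreteCategory.congr_hom ((φ : (R0 A₀ B).over U ⟶ _).hom.naturality
    (Over.homMk g (by simp) : Over.mk (g ≫ z) ⟶ Over.mk z).op) (unitSec t)
  refine (congrArg (fun x => Red.gmFn (Additive.toMul (ULift.down x))) h).trans ?_
  exact RedPts82.gmFn_comp g _

theorem val_zero (Z : Over (base A₀)) (z : Z ⟶ U) (t : (Γ((pb B Z).left, ⊤))ˣ) :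
    val (0 : (D A₀ B).obj.obj (op U)) Z z t = 1 :=
  RedPts82.gmFn_one

theorem val_add (φ ψ : (D A₀ B).obj.obj (op U)) (Z : Over (base A₀)) (z : Z ⟶ U)
    (t : (Γ((pb B Z).left, ⊤))ˣ) : val (φ + ψ) Z z t = val φ Z z t * val ψ Z z t :=
  RedPts82.gmFn_mul _ _

theorem val_res {U' : Over (base A₀)} (k : U' ⟶ U) (φ : (D A₀ B).obj.obj (op U)) (Z : Over (base A₀))
    (z : Z ⟶ U') (t : (Γ((pb B Z).left, ⊤))ˣ) :
    val ((D A₀ B).obj.map k.op φ) Z z t = val φ Z (z ≫ k) t := by
  rfl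

theorem val_ext {φ ψ : (D A₀ B).obj.obj (op U)} (h : ∀ Z z t, val φ Z z t = val ψ Z z t) : φ = ψ := by
  refine Sheaf.hom_ext (NatTrans.ext (funext fun W => ?_))
  obtain ⟨W⟩ := W
  refine AddCommGrpCat.ext fun x => ?_
  obtain ⟨t, ht⟩ := unitSec_surjective (A₀ := A₀) (B := B) (Z := W.left) x
  rw [← ht]
  exact ULift.ext _ _ (congrArg Additive.ofMul (RedPts82.gmFn_injective (h W.left W.hom t)))

/-- A section of the dual from a natural family of multiplicative maps. -/
theorem exists_of_val (F : ∀ (Z : Over (base A₀)), (Z ⟶ U) → (Γ((pb B Z).left, ⊤))ˣ → Γ(Z.left, ⊤))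
    (hu : ∀ Z z t, IsUnit (F Z z t))
    (hmul : ∀ Z z t t', F Z z (t * t') = F Z z t * F Z z t')
    (hnat : ∀ {Z Z' : Over (base A₀)} (g : Z' ⟶ Z) (z : Z ⟶ U) (t : (Γ((pb B Z).left, ⊤))ˣ),
      F Z' (g ≫ z) (Units.map ((Over.pullback (fB A₀ B)).map g).left.appTop.hom.toMonoidHom t) =
        g.left.appTop (F Z z t)) :
    ∃ φ : (D A₀ B).obj.obj (op U), ∀ Z z t, val φ Z z t = F Z z t := by
  have hsec : ∀ (Z : Over (base A₀)) (z : Z ⟶ U),
      ∃ h : (R0 A₀ B).obj.obj (op Z) →+ ((CGrpSh2.Gm Scheme.fppfPrecoverage (base A₀)).obj.obj (op Z)),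
        ∀ t, Red.gmFn (Additive.toMul (h (unitSec t)).down) = F Z z t := by
    intro Z z
    let h₀ : (R0 A₀ B).obj.obj (op Z) → ((CGrpSh2.Gm Scheme.fppfPrecoverage (base A₀)).obj.obj (op Z)) :=
      fun x => ULift.up (Additive.ofMul (unitPt (hu Z z (RedPts82.gmFn_isUnit (Additive.toMul x.down)).unit).unit))
    have h1 : ∀ x y, h₀ (x + y) = h₀ x + h₀ y := fun x y => ULift.ext _ _ (congrArg Additive.ofMul (by
      apply RedPts82.gmFn_injective
      refine (gmFn_unitPt _).trans ?_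
      refine Eq.trans ?_ (RedPts82.gmFn_mul _ _).symm
      simp only [h₀, toMul_ofMul, gmFn_unitPt, IsUnit.unit_spec, ← hmul]
      congr 1
      exact Units.ext (RedPts82.gmFn_mul _ _)))
    refine ⟨AddMonoidHom.mk' h₀ h1, fun t => ?_⟩
    refine (gmFn_unitPt _).trans ((IsUnit.unit_spec _).trans (congrArg (F Z z) (Units.ext ?_)))
    exact gmFn_unitPt t
  choose h hh using hsec
  refine ⟨(⟨{ app := fun W => AddCommGrpCat.ofHom (h W.unop.left W.unop.hom), naturality := fun W W' g => ?_ }⟩ :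
    (R0 A₀ B).over U ⟶ (CGrpSh2.Gm Scheme.fppfPrecoverage (base A₀)).over U), fun Z z t => hh Z z t⟩
  refine AddCommGrpCat.ext fun x => ?_
  obtain ⟨t, ht⟩ := unitSec_surjective (A₀ := A₀) (B := B) (Z := W.unop.left) x
  rw [← ht]
  show h W'.unop.left W'.unop.hom ((R0 A₀ B).obj.map g.unop.left.op (unitSec t)) =
    (CGrpSh2.Gm Scheme.fppfPrecoverage (base A₀)).obj.map g.unop.left.op (h W.unop.left W.unop.hom (unitSec t))
  rw [unitSec_map]
  refine ULift.ext _ _ (congrArg Additive.ofMul (RedPts82.gmFn_injective ?_))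
  refine (hh _ _ _).trans ?_
  rw [← Over.w g.unop]
  refine (hnat g.unop.left W.unop.hom t).trans ?_
  rw [← hh]
  exact (RedPts82.gmFn_comp _ _).symm

end Groth.Agent.DualTor32
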