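import Groth.Agent.EtTr32.Site
import Groth.Agent.Hilb90F24.Basic
import Mathlib.Algebra.Homology.ShortComplex.Ab
import Mathlib.CategoryTheory.Abelian.GrothendieckCategory.EnoughInjectives

/-!
Vanishing of `H¹` on a site from the triviality of cocycles on cofinally many finite families of
pairwise disjoint covering objects.
-/

set_option autoImplicit false
universe t w' w v u

open CategoryTheory CategoryTheory.Limits Opposite

namespace Groth.Agent.DualTor32

variable {C : Type u} [Category.{v} C] {J : GrothendieckTopology C}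

/-- A finite family of pairwise disjoint objects covering a terminal object, inside a sieve, with
weak self products. -/
structure CoverSys (J : GrothendieckTopology C) {T : C} (hT : IsTerminal T) (R : Sieve T) where
  ι : Type t
  W : ι → C
  P : ι → C
  p₁ : ∀ i, P i ⟶ W i
  p₂ : ∀ i, P i ⟶ W i
  lift : ∀ i (Z : C) (a b : Z ⟶ W i), ∃ h : Z ⟶ P i, h ≫ p₁ i = a ∧ h ≫ p₂ i = b
  mem : ∀ i, R (hT.from (W i))
  cover : Sieve.ofArrows W (fun i => hT.from (W i)) ∈ J T
  disjoint : ∀ i j, i ≠ j → ∀ (Z : C), (Z ⟶ W i) → (Z ⟶ W j) → (⊥ : Sieve Z) ∈ J Z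

/-- A cocycle on the `i`-th member. -/
def CoverSys.IsCocycle {T : C} {hT : IsTerminal T} {R : Sieve T} (D : CoverSys.{t} J hT R)
    (F : Sheaf J AddCommGrpCat.{w}) (i : D.ι) (c : F.obj.obj (op (D.P i))) : Prop :=
  ∀ (Z : C) (q₁₂ q₂₃ q₁₃ : Z ⟶ D.P i), q₁₂ ≫ D.p₁ i = q₁₃ ≫ D.p₁ i → q₁₂ ≫ D.p₂ i = q₂₃ ≫ D.p₁ i →
    q₁₃ ≫ D.p₂ i = q₂₃ ≫ D.p₂ i → F.obj.map q₁₃.op c = F.obj.map q₁₂.op c + F.obj.map q₂₃.op c

theorem subsingleton_H1 [HasSheafify J AddCommGrpCat.{w}] [HasExt.{w'} (Sheaf J AddCommGrpCat.{w})]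
    [EnoughInjectives (Sheaf J AddCommGrpCat.{w})] [Balanced (Sheaf J AddCommGrpCat.{w})]
    [J.WEqualsLocallyBijective AddCommGrpCat.{w}]
    (F : Sheaf J AddCommGrpCat.{w}) {T : C} (hT : IsTerminal T)
    (H : ∀ R ∈ J T, ∃ D : CoverSys.{t} J hT R, ∀ i (c : F.obj.obj (op (D.P i))), D.IsCocycle F i c →
      ∃ m : F.obj.obj (op (D.W i)), F.obj.map (D.p₂ i).op m - F.obj.map (D.p₁ i).op m = c) :
    Subsingleton (Sheaf.H F 1) := by
  let ι := Injective.ι F
  let S : ShortComplex _ := ShortComplex.mk ι (cokernel.π ι) (cokernel.condition ι)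
  have hS : S.ShortExact := { exact := ShortComplex.exact_cokernel ι }
  have hex : ∀ (U : C) (a : S.X₂.obj.obj (op U)),
      S.g.hom.app (op U) a = 0 → ∃ b, S.f.hom.app (op U) b = a := by
    intro U
    let Φ := sheafToPresheaf J AddCommGrpCat.{w} ⋙ (evaluation _ _).obj (op U)
    exact (ShortComplex.ab_exact_iff (S.map Φ)).1 (hS.exact.map_of_mono_of_preservesKernel Φ hS.mono_f inferInstance)
  have hinj : ∀ (U : C), Function.Injective (S.f.hom.app (op U)) := by
    intro U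
    haveI : Mono S.f := hS.mono_f
    haveI : Mono S.f.hom := inferInstanceAs (Mono ((sheafToPresheaf _ _).map S.f))
    exact (AddCommGrpCat.mono_iff_injective _).1 inferInstance
  refine Hilb90F24.H1_of_surjective hS hT fun q => ?_
  haveI : Epi S.g := hS.epi_g
  haveI : Sheaf.IsLocallySurjective S.g := (Sheaf.isLocallySurjective_iff_epi' AddCommGrpCat.{w} S.g).2 inferInstance
  obtain ⟨D, hD⟩ := H _ (Presheaf.imageSieve_mem J S.g.hom q)
  have hlift : ∀ i, ∃ t, S.g.hom.app (op (D.W i)) t = S.X₃.obj.map (hT.from (D.W i)).op q := fun i => D.mem i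
  choose t ht using hlift
  have mapc : ∀ (A : Sheaf J AddCommGrpCat.{w}) {U V W : C} (p : W ⟶ V) (r : V ⟶ U) (z : A.obj.obj (op U)),
      A.obj.map p.op (A.obj.map r.op z) = A.obj.map (p ≫ r).op z := by
    intro A U V W p r z
    rw [op_comp, Functor.map_comp]
    rfl
  have hgt : ∀ i (Z : C) (a : Z ⟶ D.W i),
      S.g.hom.app (op Z) (S.X₂.obj.map a.op (t i)) = S.X₃.obj.map (hT.from Z).op q := fun i Z a => by
    rw [NatTrans.naturality_apply, ht, mapc, hT.hom_ext (a ≫ hT.from _) (hT.from Z)]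
  have hc : ∀ i, ∃ c, S.f.hom.app (op (D.P i)) c = S.X₂.obj.map (D.p₂ i).op (t i) - S.X₂.obj.map (D.p₁ i).op (t i) :=
    fun i => hex _ _ (by rw [map_sub, hgt, hgt, sub_self])
  choose c hc using hc
  have hcoc : ∀ i, D.IsCocycle F i (c i) := by
    intro i Z q₁₂ q₂₃ q₁₃ h1 h2 h3
    apply hinj
    rw [map_add, NatTrans.naturality_apply, NatTrans.naturality_apply, NatTrans.naturality_apply, hc,
      map_sub, map_sub, map_sub, mapc, mapc, mapc, mapc, mapc, mapc, h1, h2, h3]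
    abel
  choose m hm using fun i => hD i (c i) (hcoc i)
  let x : ∀ i, S.X₂.obj.obj (op (D.W i)) := fun i => t i - S.f.hom.app (op (D.W i)) (m i)
  have hfg : ∀ (U : C) (z : S.X₁.obj.obj (op U)), S.g.hom.app (op U) (S.f.hom.app (op U) z) = 0 := fun U z => by
    show (S.f ≫ S.g).hom.app _ z = 0
    rw [S.zero]
    rfl
  have hx : Presieve.Arrows.Compatible (S.X₂.obj ⋙ forget AddCommGrpCat.{w}) (fun i => hT.from (D.W i)) x := by
    intro i j Z a b _
    show S.X₂.obj.map a.op (x i) = S.X₂.obj.map b.op (x j)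
    by_cases hij : i = j
    · subst hij
      obtain ⟨h, rfl, rfl⟩ := D.lift i Z a b
      rw [← mapc, ← mapc]
      congr 1
      simp only [x, map_sub, ← NatTrans.naturality_apply]
      have := congrArg (S.f.hom.app (op (D.P i))) (hm i)
      rw [map_sub, hc] at this
      exact sub_eq_sub_iff_add_eq_add.2 ((add_comm _ _).trans (sub_eq_sub_iff_add_eq_add.1 this))
    · exact EtTr32.sect_ext S.X₂ (D.disjoint i j hij Z a b) fun V h hh => absurd hh (by simp)
  have hsh := ((isSheaf_iff_isSheaf_of_type _ _).1 (EtTr32.isSheaf_types S.X₂)) _ D.cover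
  rw [Sieve.ofArrows, ← Presieve.isSheafFor_iff_generate] at hsh
  obtain ⟨t₀, ht₀, -⟩ := (Presieve.isSheafFor_arrows_iff _ _).1 hsh x hx
  refine ⟨t₀, EtTr32.sect_ext S.X₃ D.cover fun V f hf => ?_⟩
  obtain ⟨i, k, rfl⟩ := (Sieve.mem_ofArrows_iff _ _ _).1 hf
  have hti : S.X₂.obj.map (hT.from (D.W i)).op t₀ = x i := ht₀ i
  rw [← mapc, ← mapc, ← NatTrans.naturality_apply, hti]
  congr 1
  simp only [x, map_sub, hfg, sub_zero, ht]

end Groth.Agent.DualTor32
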