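import Groth.Agent.DualTor32.Split
import Mathlib.RingTheory.TotallySplit
import Mathlib.RingTheory.Spectrum.Prime.FreeLocus
import Mathlib.RingTheory.Etale.Basic
import Mathlib.RingTheory.Finiteness.ModuleFinitePresentation
import Mathlib.RingTheory.Spectrum.Prime.Noetherian
import Mathlib.RingTheory.Spectrum.Prime.Topology

/-! A finite etale algebra over a domain has a splitting over a finite faithfully flat algebra. -/

set_option autoImplicit false
set_option backward.isDefEq.respectTransparency false
universe u

open TensorProduct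

noncomputable section

namespace Groth.Agent.DualTor32

theorem exists_spl (A₀ : Type u) [CommRing A₀] [IsDomain A₀] (B : Type u) [CommRing B] [Algebra A₀ B]
    [Algebra.Etale A₀ B] [Module.Finite A₀ B] :
    ∃ (T : Type u) (_ : CommRing T) (_ : Algebra A₀ T) (_ : Module.FaithfullyFlat A₀ T) (_ : Module.Finite A₀ T)
      (n : ℕ), Nonempty (Spl A₀ B T n) := by
  have : Module.FinitePresentation A₀ B := (Module.FinitePresentation.iff_finitePresentation_of_finite A₀ B).2 inferInstance
  obtain ⟨p₀⟩ : Nonempty (PrimeSpectrum A₀) := inferInstance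
  have hn : Module.rankAtStalk (R := A₀) B = Module.rankAtStalk (R := A₀) B p₀ := funext fun p =>
    Module.isLocallyConstant_rankAtStalk.apply_eq_of_isPreconnected isPreconnected_univ (Set.mem_univ p)
      (Set.mem_univ p₀)
  obtain ⟨T, _, _, hT, hTf, _, hs⟩ := Algebra.IsFiniteSplit.exists_tensorProduct_of_etale hn
  obtain ⟨n, ⟨e⟩⟩ := hs.nonempty_algEquiv_fun
  refine ⟨T, inferInstance, inferInstance, hT, hTf, n, ⟨?_⟩⟩
  let ev : Fin n → (T ⊗[A₀] B →ₐ[T] T) := fun i => (Pi.evalAlgHom T (fun _ : Fin n => T) i).comp e.toAlgHom
  refine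
    { σ := fun i => ((ev i).restrictScalars A₀).comp Algebra.TensorProduct.includeRight
      ε := fun i => e.symm (Pi.single i 1)
      delta := fun i j => ?_
      expand := fun b => ?_ }
  · have h : Algebra.TensorProduct.lift (Algebra.ofId T T)
        (((ev j).restrictScalars A₀).comp Algebra.TensorProduct.includeRight) (fun _ _ => Commute.all _ _) = ev j :=
      Algebra.TensorProduct.ext (AlgHom.ext fun t => by simpa using ((ev j).commutes t).symm)
        (AlgHom.ext fun b => by simp [Algebra.ofId_apply])
    rw [h]
    show e (e.symm (Pi.single i 1)) j = _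
    rw [AlgEquiv.apply_symm_apply, Pi.single_apply]
    exact if_congr eq_comm rfl rfl
  · apply e.injective
    rw [map_sum]
    funext j
    rw [Finset.sum_apply, Finset.sum_eq_single j]
    · rw [map_smul, AlgEquiv.apply_symm_apply, Pi.smul_apply, Pi.single_eq_same, smul_eq_mul, mul_one]
      rfl
    · intro i _ hi
      rw [map_smul, AlgEquiv.apply_symm_apply, Pi.smul_apply, Pi.single_eq_of_ne (Ne.symm hi), smul_zero]
    · simp

end Groth.Agent.DualTor32
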